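import Cfsg.Agent.Lib.TwoSymFour12.AltSixAut
import Cfsg.Agent.S0497

/-!
# The simple group of order 360 has two classes of non-trivial 3-elements
-/

set_option autoImplicit false

namespace Cfsg.Agent.Lib.NineTwoQ78.AltSix

open Equiv Equiv.Perm

universe u

theorem cube_eq_one {σ : Perm (Fin 6)} (h : orderOf σ ∣ 9) : σ ^ 3 = 1 := by
  rw [← orderOf_dvd_iff_pow_eq_one, ← Perm.lcm_cycleType, Multiset.lcm_dvd]
  intro n hn
  have h9 : n ∣ 9 := (Perm.dvd_of_mem_cycleType hn).trans h
  have h6 : n ≤ 6 := (Multiset.le_sum_of_mem hn).trans (by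
    rw [Perm.sum_cycleType]; simpa using σ.support.card_le_univ)
  have h2 := Perm.two_le_of_mem_cycleType hn
  interval_cases n <;> first | (norm_num at h9; done) | norm_num

theorem card_classes_le {G : Type u} [Group G] [Finite G] [IsSimpleGroup G]
    (h : Nat.card G = 360) :
    Nat.card {C : ConjClasses G // ∃ g ∈ C.carrier, g ≠ 1 ∧ orderOf g ∣ 9} ≤ 2 := by
  classical
  obtain ⟨e⟩ := Cfsg.Agent.S0497.result h
  have := Fintype.ofFinite {C : ConjClasses G // ∃ g ∈ C.carrier, g ≠ 1 ∧ orderOf g ∣ 9}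
  rw [Nat.card_eq_fintype_card]
  set typ : G → Bool := fun g => decide ((e g : Perm (Fin 6)).IsThreeCycle) with htyp
  let f : {C : ConjClasses G // ∃ g ∈ C.carrier, g ≠ 1 ∧ orderOf g ∣ 9} → Bool :=
    fun C => typ C.2.choose
  refine (Fintype.card_le_of_injective f fun C D hCD => ?_).trans (le_of_eq Fintype.card_bool)
  obtain ⟨hC, hC1, hC9⟩ := C.2.choose_spec
  obtain ⟨hD, hD1, hD9⟩ := D.2.choose_spec
  set g := C.2.choose
  set g' := D.2.choose
  have hkey : ∀ x : G, x ≠ 1 → orderOf x ∣ 9 →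
      ((e x : Perm (Fin 6)).IsThreeCycle ∨ (e x : Perm (Fin 6)).cycleType = ({3, 3} : Multiset ℕ)) := by
    intro x hx1 hx9
    refine TwoSymFour12.cycleType_three (cube_eq_one ?_) fun h1 => hx1 ?_
    · rwa [Subgroup.orderOf_coe, MulEquiv.orderOf_eq]
    · exact (MulEquiv.map_eq_one_iff e).1 (Subtype.ext h1)
  have hconj : IsConj (e g) (e g') := by
    have hiff : (e g : Perm (Fin 6)).IsThreeCycle ↔ (e g' : Perm (Fin 6)).IsThreeCycle := by
      simpa [f, typ] using hCD
    rcases hkey g hC1 hC9 with h1 | h1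
    · exact alternatingGroup.isThreeCycle_isConj (by simp) h1 (hiff.1 h1)
    · rcases hkey g' hD1 hD9 with h2 | h2
      · have h1' := hiff.2 h2
        rw [Perm.IsThreeCycle, h1] at h1'
        exact absurd h1' (by decide)
      · exact TwoSymFour12.isConj_double h1 h2
  have hG : IsConj g g' := by
    have := e.symm.toMonoidHom.map_isConj hconj
    simpa using this
  refine Subtype.ext ?_
  rw [← ConjClasses.mem_carrier_iff_mk_eq.1 hC, ← ConjClasses.mem_carrier_iff_mk_eq.1 hD,
    ConjClasses.mk_eq_mk_iff_isConj]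
  exact hG

end Cfsg.Agent.Lib.NineTwoQ78.AltSix
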