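import Cfsg.Agent.Lib.NineTwoQ78.Small
import Cfsg.Agent.Lib.Linear.Order
import Cfsg.Agent.Lib.SmallGroups.ProjLine

/-!
# Simple groups of order `9 * 2 ^ a * q`
-/

set_option autoImplicit false

namespace Cfsg.Agent.Lib.NineTwoQ78.One

open Cfsg.Agent.Lib

universe u

/-- The outcome: `PSL(2, 17)`, or order 360 or 504. -/
def Out (G : Type u) [Group G] : Prop :=
  Nat.card G = 360 ∨ Nat.card G = 504 ∨
    Nonempty (G ≃* Matrix.ProjectiveSpecialLinearGroup (Fin 2) (ZMod 17))

theorem card_eq_of_psl {G : Type u} [Group G] [Finite G] {F : Type} [Field F] [Fintype F]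
    (e : G ≃* Matrix.ProjectiveSpecialLinearGroup (Fin 2) F) :
    Nat.gcd 2 (Fintype.card F - 1) * Nat.card G =
      Fintype.card F * (Fintype.card F - 1) * (Fintype.card F + 1) := by
  rw [Nat.card_congr e.toEquiv]
  exact Linear.gcd_mul_card_PSL_two

theorem of_one {G : Type u} [Group G] [Finite G] [IsSimpleGroup G] (hG : ¬ IsMulCommutative G)
    {q a : ℕ} (hq : q.Prime) (hq5 : 5 ≤ q) (ha : q = 5 → a ≤ 7)
    (hcard : Nat.card G = 9 * 2 ^ a * q) : Out G := by
  rcases Nat.lt_or_ge q 11 with h11 | h11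
  · have h57 : q = 5 ∨ q = 7 := by
      interval_cases q <;> first | omega | exact absurd hq (by norm_num)
    rcases Small.card_eq hG (h57.imp (fun h => ⟨h, ha h⟩) id) hcard with h | h
    · exact Or.inl h
    · exact Or.inr (Or.inl h)
  have : Fact q.Prime := ⟨hq⟩
  have hcyc : ¬ IsCyclic G := fun h => hG h.isMulCommutative
  obtain ⟨x, hx, hC, hn, m, hm⟩ := FirstPower.SmallDegree.brauer_tuan hcyc q 2 a 9
    Nat.prime_two (by omega) (by rw [hcard]; ring) (by omega)
  have hperf := SmallGroups.Sylow.commutator_eq_top hG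
  rcases FirstPower.PerfectFew.main hperf hx hC hn with
    ⟨F, _, _, hF, -, ⟨e⟩⟩ | ⟨k, F, _, _, hF, hqk, -, ⟨e⟩⟩
  · have h := card_eq_of_psl e
    have hodd : Nat.gcd 2 (Fintype.card F - 1) = 2 := by
      rw [hF, Nat.gcd_eq_left]
      obtain ⟨j, hj⟩ := hq.odd_of_ne_two (by omega)
      omega
    rw [hodd, hF, hcard] at h
    have h' : 9 * 2 ^ (a + 1) = (q - 1) * (q + 1) := by
      refine Nat.eq_of_mul_eq_mul_left hq.pos ?_
      calc q * (9 * 2 ^ (a + 1)) = 2 * (9 * 2 ^ a * q) := by ring
        _ = _ := by rw [h]; ring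
    have h17 : q = 17 := by
      obtain ⟨j, rfl⟩ : ∃ j, m = j + 1 := by
        refine ⟨m - 1, ?_⟩
        rcases m with _ | m
        · simp at hm; omega
        · rfl
      have h2j : 1 ≤ 2 ^ j := Nat.one_le_two_pow
      -- the factor prime to the power of two is nine
      have key : ∀ t : ℕ, Odd t → 1 < j → ∀ s, 2 ^ s * 9 = 2 ^ (j + 2) * t → t = 9 := by
        intro t ht _ s hs
        have h1 : t ∣ 9 :=
          ((Nat.coprime_two_left.mpr ht).symm.pow_right s).dvd_of_dvd_mul_left
            (hs ▸ dvd_mul_left t _)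
        have h2 : 9 ∣ t :=
          ((by norm_num : Nat.Coprime 9 2).pow_right (j + 2)).dvd_of_dvd_mul_left
            (hs ▸ dvd_mul_left 9 _)
        exact Nat.dvd_antisymm h1 h2
      have hj : 1 < j := by
        by_contra hc
        interval_cases j <;> simp at hm <;> omega
      have hev : 2 ∣ 2 ^ j := dvd_pow_self 2 (by omega)
      rw [pow_succ] at hm
      rcases hm with hm | hm
      · -- `q = 2 ^ (j + 1) + 1`
        have ht := key (2 ^ j + 1) (by rw [Nat.odd_iff]; omega) hj (a + 1) (by
          rw [mul_comm, h', pow_add, show q - 1 = 2 ^ j * 2 by omega,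
            show q + 1 = 2 * (2 ^ j + 1) by omega]
          ring)
        omega
      · have ht := key (2 ^ j - 1) (by rw [Nat.odd_iff]; omega) hj (a + 1) (by
          rw [mul_comm, h', pow_add, show q + 1 = 2 ^ j * 2 by omega,
            show q - 1 = 2 * (2 ^ j - 1) by omega]
          ring)
        have : 2 ^ j = 10 := by omega
        have h4 : j < 4 := by
          by_contra hc
          have := Nat.pow_le_pow_right two_pos (show 4 ≤ j by omega)
          omega
        interval_cases j <;> omega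
    subst h17
    obtain ⟨e'⟩ := SmallGroups.ProjLine.psl_congr_card (F := F) (F' := ZMod 17)
      (by rw [hF, ZMod.card])
    exact Or.inr (Or.inr ⟨e.trans e'⟩)
  · exfalso
    have h := card_eq_of_psl e
    have hk : 2 ∣ 2 ^ k := dvd_pow_self 2 (by rintro rfl; simp at hqk; omega)
    have hev : Nat.gcd 2 (Fintype.card F - 1) = 1 := by
      rw [hF, ← Nat.coprime_iff_gcd_eq_one, Nat.coprime_two_left, Nat.odd_iff]
      omega
    rw [hev, hF, ← hqk, one_mul, hcard] at h
    have h9 : 9 * 2 ^ a = 2 ^ k * (2 ^ k - 1) := by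
      refine Nat.eq_of_mul_eq_mul_right hq.pos ?_
      rw [h]
    have hodd : Odd (2 ^ k - 1) := by rw [Nat.odd_iff]; omega
    have h1 : 2 ^ k - 1 ∣ 9 :=
      ((Nat.coprime_two_left.mpr hodd).symm.pow_right a).dvd_of_dvd_mul_right
        (h9 ▸ dvd_mul_left _ _)
    have := Nat.le_of_dvd (by norm_num) h1
    have hk4 : k < 4 := by
      by_contra hc
      have := Nat.pow_le_pow_right two_pos (show 4 ≤ k by omega)
      omega
    interval_cases k <;> omega

end Cfsg.Agent.Lib.NineTwoQ78.One
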