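import Cfsg.Agent.Lib.BC77.SchurBound
import Cfsg.Agent.Lib.BC78.Galois
import Cfsg.Agent.Lib.PrincipalCore.Rational
import Cfsg.Agent.Lib.DegreeBounds.Basic
import Cfsg.Agent.Lib.Induced.Burnside
import Cfsg.Agent.Lib.NineTwoQ78.One

/-!
# Rational characters of small degree bound the exponents of the order
-/

set_option autoImplicit false

namespace Cfsg.Agent.Lib.NineTwoQ78.Bound

open Cfsg.Agent.Lib Cfsg.Agent.Lib.Characters.Basic

universe u

variable {G : Type u} [Group G] [Finite G]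

/-- Rational valued. -/
def Rat' (χ : Cfsg.IrrCharacter G) : Prop := ∀ g : G, ∃ z : ℤ, (χ : G → ℂ) g = z

/-- A character fixed by all Galois conjugations is rational. -/
theorem rat_of_fixed (χ : Cfsg.IrrCharacter G)
    (h : ∀ k : ℕ, k.Coprime (Nat.card G) → ∀ g : G, (χ : G → ℂ) (g ^ k) = (χ : G → ℂ) g) :
    Rat' χ := by
  intro g
  obtain ⟨m, hm⟩ := BC78.Galois.exists_int_of_fixed (isIntegral_apply (isCharacter_irr χ) g)
    fun σ => by
      obtain ⟨k, hk, hσ⟩ := BC78.Galois.exists_exponent_char (G := G) σ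
      rw [hσ _ (isCharacter_irr χ), h k hk]
  exact ⟨m, hm.symm⟩

theorem exp_le [IsSimpleGroup G] {χ : Cfsg.IrrCharacter G} (hne : χ ≠ oneChar G) (hrat : Rat' χ)
    (p : ℕ) [Fact p.Prime] {k : ℕ} (hk : p ^ k ∣ Nat.card G) :
    k ≤ BC77.SchurBound.schurSum p (Cfsg.charDegree (χ : G → ℂ) + 1)
      (Cfsg.charDegree (χ : G → ℂ)) := by
  classical
  have := Fintype.ofFinite G
  obtain ⟨P, hP⟩ := Sylow.exists_subgroup_card_pow_prime p hk
  have hfaith : ∀ g : G, (χ : G → ℂ) g = (χ : G → ℂ) 1 → g = 1 := by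
    intro g hgd
    obtain ⟨g', hg'⟩ : ∃ g', (χ : G → ℂ) g' ≠ (χ : G → ℂ) 1 := by
      by_contra hall
      push Not at hall
      apply hne
      by_contra hne'
      have h := classInner_irr_of_ne hne'
      rw [Cfsg.classInner] at h
      simp only [hall, oneChar_apply, map_one, mul_one, Finset.sum_const, Finset.card_univ,
        nsmul_eq_mul, mul_eq_zero, inv_eq_zero, Nat.cast_eq_zero] at h
      rcases h with h | h | h
      · exact Nat.card_pos.ne' h
      · exact Fintype.card_ne_zero h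
      · exact apply_one_ne_zero χ h
    have hk := Characters.Kernel.charKer_eq_bot_of_simple (isCharacter_irr χ) hg'
    have hmem := (Characters.Kernel.mem_charKer (isCharacter_irr χ) g).mpr hgd
    rwa [hk, Subgroup.mem_bot] at hmem
  refine BC77.SchurBound.pgroup_bound p (IsPGroup.of_card hP)
    (χ := fun y : P => (χ : G → ℂ) y) (isCharacter_comp P.subtype (isCharacter_irr χ))
    (fun y hy => Subtype.ext (hfaith _ hy)) (fun u y hu => ?_)
    (by simpa using DegreeBounds.Basic.charDegree_irr χ) hP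
  obtain ⟨b, hb⟩ : ∃ b, orderOf (y : G) = p ^ b := by
    obtain ⟨b, hb⟩ := IsPGroup.iff_orderOf.mp (IsPGroup.of_card hP : IsPGroup p P) y
    exact ⟨b, by rw [Subgroup.orderOf_coe, hb]⟩
  rw [SubmonoidClass.coe_pow]
  refine BC77.SchurBound.apply_pow_of_prational p (isCharacter_irr χ) Nat.one_pos
    (Nat.Prime.not_dvd_one Fact.out) (fun g => ?_) (b := b)
    (by rw [← hb, pow_orderOf_eq_one]) hu
  obtain ⟨z, hz⟩ := hrat g
  rw [hz]
  exact intCast_mem _ z

theorem schurSum_le_one {p n : ℕ} (hp : 2 ≤ p) (hn : n < 2 * (p - 1)) :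
    BC77.SchurBound.schurSum p (n + 1) n ≤ 1 := by
  rw [BC77.SchurBound.schurSum, Finset.sum_range_succ', pow_zero, mul_one]
  rw [Finset.sum_eq_zero fun i _ => Nat.div_eq_of_lt ?_, zero_add]
  · exact Nat.le_of_lt_succ ((Nat.div_lt_iff_lt_mul (by omega)).mpr (by omega))
  · refine lt_of_lt_of_le hn ?_
    rw [mul_comm]
    exact Nat.mul_le_mul_left _ (le_trans hp (Nat.le_self_pow (by omega) p))

/-- A power of a prime next to a power of two. -/
theorem exp_one_of_next {q i j : ℕ} (hq : q.Prime) (hq2 : q ≠ 2) (hq3 : q ≠ 3)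
    (h : 2 ^ i + 1 = q ^ j ∨ q ^ j + 1 = 2 ^ i) (hi : 1 ≤ i) : j ≤ 1 := by
  by_contra hj
  have hqo : Odd q := hq.odd_of_ne_two hq2
  have hq5 : 5 ≤ q := hq.five_le_of_ne_two_of_ne_three hq2 hq3
  have split : ∀ (A B : ℕ), A * B ∣ 2 ^ i → ∃ s t, A = 2 ^ s ∧ B = 2 ^ t := fun A B hAB => by
    obtain ⟨s, -, hs⟩ := (Nat.dvd_prime_pow Nat.prime_two).mp ((dvd_mul_right A B).trans hAB)
    obtain ⟨t, -, ht⟩ := (Nat.dvd_prime_pow Nat.prime_two).mp ((dvd_mul_left B A).trans hAB)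
    exact ⟨s, t, hs, ht⟩
  rcases Nat.even_or_odd j with ⟨l, hl⟩ | hjodd
  · set A := q ^ l with hA
    have hA5 : 5 ≤ A := le_trans hq5 (Nat.le_self_pow (by omega) q)
    have hAodd : Odd A := hqo.pow
    rw [hl, pow_add, ← hA] at h
    rcases h with h | h
    · obtain ⟨s, t, hs, ht⟩ := split (A - 1) (A + 1) (dvd_of_eq (by
        zify [show 1 ≤ A by omega] at h ⊢; linear_combination -h))
      have hs2 : 2 ≤ s := by
        by_contra hc
        interval_cases s <;> omega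
      have ht2 : 2 ≤ t := by
        by_contra hc
        interval_cases t <;> omega
      obtain ⟨s', rfl⟩ : ∃ s', s = s' + 2 := ⟨s - 2, by omega⟩
      obtain ⟨t', rfl⟩ : ∃ t', t = t' + 2 := ⟨t - 2, by omega⟩
      rw [pow_add] at hs ht
      omega
    · obtain ⟨c, hc⟩ := hAodd
      obtain ⟨i', rfl⟩ : ∃ i', i = i' + 1 := ⟨i - 1, by omega⟩
      rcases i' with _ | i'
      · have := Nat.mul_le_mul hA5 hA5
        simp at h
        omega
      · have : 4 ∣ (2 * c + 1) * (2 * c + 1) + 1 := by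
          rw [← hc, h, pow_succ, pow_succ]; exact ⟨2 ^ i', by ring⟩
        have e : (2 * c + 1) * (2 * c + 1) + 1 = 4 * (c * c + c) + 2 := by ring
        omega
  · -- an odd exponent: the quotient by `q ± 1` is odd
    have hsum : ∀ (z : ℤ), Odd z →
        Odd (∑ k ∈ Finset.range j, z ^ k) := by
      intro z hz
      rw [Int.odd_iff, Finset.sum_int_mod, Finset.sum_congr rfl
        (fun k _ => Int.odd_iff.mp hz.pow), Finset.sum_const, Finset.card_range]
      obtain ⟨c, rfl⟩ := hjodd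
      simp
    have key : ∀ z : ℤ, Odd z → ((2 : ℤ) ^ i = z ^ j - 1 ∨ (2 : ℤ) ^ i = -(z ^ j - 1)) →
        z ^ j - 1 = z - 1 ∨ z ^ j - 1 = -(z - 1) := by
      intro z hz he
      have hg := geom_sum_mul z j
      set S := ∑ k ∈ Finset.range j, z ^ k
      have hS : S ∣ (2 : ℤ) ^ i := by
        rcases he with e | e <;> rw [e, ← hg]
        · exact dvd_mul_right _ _
        · exact (dvd_mul_right _ _).neg_right
      have hS1 : S.natAbs ∣ 2 ^ i := by simpa [Int.natAbs_pow] using Int.natAbs_dvd_natAbs.mpr hS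
      obtain ⟨s, -, hs⟩ := (Nat.dvd_prime_pow Nat.prime_two).mp hS1
      have hodd : Odd S.natAbs := Int.natAbs_odd.mpr (hsum z hz)
      rcases s with _ | s
      · rcases Int.natAbs_eq S with e | e <;> rw [hs, pow_zero] at e <;> rw [← hg, e]
        · left; simp
        · right; simp
      · rw [hs, Nat.odd_iff, pow_succ] at hodd
        omega
    have hlt : (q : ℤ) < (q : ℤ) ^ j := by
      exact_mod_cast lt_self_pow₀ (show 1 < q by omega) (by omega)
    have hq5' : (5 : ℤ) ≤ q := by exact_mod_cast hq5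
    have hqz : Odd (q : ℤ) := (Int.odd_coe_nat q).mpr hqo
    rcases h with h | h
    · have h' : (2 : ℤ) ^ i + 1 = (q : ℤ) ^ j := by exact_mod_cast h
      rcases key q hqz (Or.inl (by linarith)) with e | e <;> linarith
    · have h' : (q : ℤ) ^ j + 1 = (2 : ℤ) ^ i := by exact_mod_cast h
      have hn : (-(q : ℤ)) ^ j = -(q : ℤ) ^ j := by rw [hjodd.neg_pow]
      rcases key (-(q : ℤ)) hqz.neg (Or.inr (by rw [hn]; linarith)) with e | e <;>
        rw [hn] at e <;> linarith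

/-- Consecutive divisors prime to three. -/
theorem pair {a b q d e : ℕ} (hq : q.Prime) (hq2 : q ≠ 2) (hq3 : q ≠ 3) (hd1 : 1 < d) (he1 : 1 < e)
    (hd : d ∣ 9 * 2 ^ a * q ^ b) (he : e ∣ 9 * 2 ^ a * q ^ b) (hd3 : ¬ 3 ∣ d) (he3 : ¬ 3 ∣ e)
    (hnext : d + 1 = e ∨ e + 1 = d) :
    (d = q ∧ ∃ i, e = 2 ^ i) ∨ (e = q ∧ ∃ i, d = 2 ^ i) := by
  have key : ∀ o e : ℕ, 1 < o → 1 < e → o ∣ 9 * 2 ^ a * q ^ b → e ∣ 9 * 2 ^ a * q ^ b → ¬ 3 ∣ o →
      ¬ 3 ∣ e → ¬ 2 ∣ o → (o + 1 = e ∨ e + 1 = o) → o = q ∧ ∃ i, e = 2 ^ i := by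
    intro o e ho1 he1 ho he ho3 he3 ho2 hoe
    rw [mul_assoc] at ho he
    have ho' : o ∣ q ^ b :=
      ((Nat.prime_two.coprime_iff_not_dvd.mpr ho2).symm.pow_right a).dvd_of_dvd_mul_left
        (((Nat.prime_three.coprime_iff_not_dvd.mpr ho3).symm.pow_right 2).dvd_of_dvd_mul_left ho)
    obtain ⟨j, -, rfl⟩ := (Nat.dvd_prime_pow hq).mp ho'
    have hj0 : j ≠ 0 := by rintro rfl; simp at ho1
    have heq : ¬ q ∣ e := fun h => by
      have hqo : q ∣ q ^ j := dvd_pow_self q hj0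
      have : q ∣ 1 := by
        rcases hoe with e' | e'
        · exact (Nat.dvd_add_right hqo).mp (e'.symm ▸ h)
        · exact (Nat.dvd_add_right h).mp (e'.symm ▸ hqo)
      exact hq.not_dvd_one this
    have he' : e ∣ 2 ^ a :=
      ((hq.coprime_iff_not_dvd.mpr heq).symm.pow_right b).dvd_of_dvd_mul_right
        (((Nat.prime_three.coprime_iff_not_dvd.mpr he3).symm.pow_right 2).dvd_of_dvd_mul_left he)
    obtain ⟨i, -, rfl⟩ := (Nat.dvd_prime_pow Nat.prime_two).mp he'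
    have hi : 1 ≤ i := Nat.one_le_iff_ne_zero.mpr (by rintro rfl; simp at he1)
    have hj1 : j ≤ 1 := exp_one_of_next hq hq2 hq3 hoe.symm hi
    obtain rfl : j = 1 := by omega
    exact ⟨pow_one q, i, rfl⟩
  by_cases hd2 : 2 ∣ d
  · exact Or.inr (key e d he1 hd1 he hd he3 hd3 (by omega) hnext.symm)
  · exact Or.inl (key d e hd1 he1 hd he hd3 he3 hd2 hnext)

/-- A rational character of degree at most `q + 1` settles the order. -/
theorem of_rat [IsSimpleGroup G] (hG : ¬ IsMulCommutative G) {q a b : ℕ} (hq : q.Prime)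
    (hq2 : q ≠ 2) (hq3 : q ≠ 3) (hcard : Nat.card G = 9 * 2 ^ a * q ^ b)
    {χ : Cfsg.IrrCharacter G} (hne : χ ≠ oneChar G) (hrat : Rat' χ)
    (hn : Cfsg.charDegree (χ : G → ℂ) ≤ q + 1)
    (h5 : q = 5 → ∃ χ' : Cfsg.IrrCharacter G, χ' ≠ oneChar G ∧ Rat' χ' ∧
      Cfsg.charDegree (χ' : G → ℂ) ≤ 4) : One.Out G := by
  haveI : Fact q.Prime := ⟨hq⟩
  have hq5 : 5 ≤ q := hq.five_le_of_ne_two_of_ne_three hq2 hq3
  have hb : b ≤ 1 := (exp_le hne hrat q (hcard ▸ dvd_mul_left _ _)).trans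
    (schurSum_le_one (by omega) (by omega))
  have hb0 : b ≠ 0 := by
    rintro rfl
    have hs := Induced.Burnside.isSolvable_of_card_eq 3 2 2 a (by norm_num) (by norm_num)
      (show Nat.card G = 3 ^ 2 * 2 ^ a by rw [hcard]; ring)
    exact hG ⟨⟨fun g h => IsSimpleGroup.comm_iff_isSolvable.mpr hs g h⟩⟩
  obtain rfl : b = 1 := by omega
  rw [pow_one] at hcard
  refine One.of_one hG hq hq5 (fun h => ?_) hcard
  obtain ⟨χ', hne', hrat', hn'⟩ := h5 h
  haveI : Fact (Nat.Prime 2) := ⟨Nat.prime_two⟩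
  refine (exp_le hne' hrat' 2 (hcard ▸ (dvd_mul_left (2 ^ a) 9).mul_right q)).trans ?_
  generalize Cfsg.charDegree (χ' : G → ℂ) = n at hn'
  interval_cases n <;> decide

end Cfsg.Agent.Lib.NineTwoQ78.Bound
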