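import Cfsg.Agent.Lib.H80.ClassMult
import Cfsg.Agent.Lib.Characters.Complete
import Mathlib.GroupTheory.OrderOfElement

/-!
# Two conjugates of an involution with product a self-centralizing element of odd prime order
-/

set_option autoImplicit false

namespace Cfsg.Agent.Lib.NineTwoQ78.Count

open Cfsg.Agent.Lib.Characters.Basic Cfsg.Agent.Lib.Characters.Complete
open scoped ComplexConjugate

universe u

variable {G : Type u} [Group G] [Fintype G]

/-- The structure constant of an involution class at `x` is `0` or `p |C(v)|²/|G|`. -/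
theorem structure_constant [Fintype (Cfsg.IrrCharacter G)] {p : ℕ} (hp : p.Prime) (hp2 : p ≠ 2)
    {x v : G} (hx : orderOf x = p)
    (hC : Subgroup.centralizer ({x} : Set G) = Subgroup.zpowers x) (hv : v * v = 1)
    (hT : ∑ χ : Cfsg.IrrCharacter G,
      (χ : G → ℂ) v * (χ : G → ℂ) v * conj ((χ : G → ℂ) x) / (χ : G → ℂ) 1 ≠ 0) :
    (Nat.card G : ℂ) * ∑ χ : Cfsg.IrrCharacter G,
      (χ : G → ℂ) v * (χ : G → ℂ) v * conj ((χ : G → ℂ) x) / (χ : G → ℂ) 1 =
      (p : ℂ) * (Nat.card (Subgroup.centralizer ({v} : Set G)) : ℂ) ^ 2 := by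
  classical
  set Cv := Subgroup.centralizer ({v} : Set G) with hCv
  have hcx : Nat.card (Subgroup.centralizer ({x} : Set G)) = p := by rw [hC, Nat.card_zpowers, hx]
  have hstep : ∀ a : G, ∑ χ : Cfsg.IrrCharacter G,
      (χ : G → ℂ) (v * (a * v * a⁻¹)) * conj ((χ : G → ℂ) x) =
      if IsConj x (v * (a * v * a⁻¹)) then (p : ℂ) else 0 := by
    intro a
    rw [sum_irr_mul_conj]
    by_cases h : IsConj x (v * (a * v * a⁻¹))
    · rw [if_pos h, if_pos h.symm]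
      obtain ⟨c, hc⟩ := isConj_iff.mp h
      rw [← hc, ← hcx]
      refine congrArg Nat.cast (Nat.card_congr
        { toFun := fun z => ⟨c⁻¹ * z * c, ?_⟩
          invFun := fun z => ⟨c * z * c⁻¹, ?_⟩
          left_inv := fun z => Subtype.ext (by simp [mul_assoc])
          right_inv := fun z => Subtype.ext (by simp [mul_assoc]) })
      · rw [Subgroup.mem_centralizer_singleton_iff]
        have h1 := Subgroup.mem_centralizer_singleton_iff.mp z.2
        calc c⁻¹ * (z : G) * c * x = c⁻¹ * ((z : G) * (c * x * c⁻¹)) * c := by group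
          _ = c⁻¹ * (c * x * c⁻¹ * (z : G)) * c := by rw [h1]
          _ = _ := by group
      · rw [Subgroup.mem_centralizer_singleton_iff]
        have h1 := Subgroup.mem_centralizer_singleton_iff.mp z.2
        calc c * (z : G) * c⁻¹ * (c * x * c⁻¹) = c * ((z : G) * x) * c⁻¹ := by group
          _ = c * (x * (z : G)) * c⁻¹ := by rw [h1]
          _ = _ := by group
    · rw [if_neg h, if_neg fun h' => h h'.symm]
  set A := Finset.univ.filter fun a : G => IsConj x (v * (a * v * a⁻¹)) with hA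
  have hmain : (Nat.card G : ℂ) * ∑ χ : Cfsg.IrrCharacter G,
      (χ : G → ℂ) v * (χ : G → ℂ) v * conj ((χ : G → ℂ) x) / (χ : G → ℂ) 1 =
      (p : ℂ) * A.card := by
    have h1 : ∑ a : G, ∑ χ : Cfsg.IrrCharacter G,
        (χ : G → ℂ) (v * (a * v * a⁻¹)) * conj ((χ : G → ℂ) x) = (p : ℂ) * A.card := by
      simp only [hstep]
      rw [← Finset.sum_filter, Finset.sum_const, nsmul_eq_mul, mul_comm, hA]
    rw [← h1, Finset.sum_comm, Finset.mul_sum]
    refine Finset.sum_congr rfl fun χ _ => ?_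
    rw [← Finset.sum_mul, H80.ClassMult.sum_apply_mul_conj]
    ring
  rw [hmain]
  obtain ⟨a₀, ha₀⟩ : A.Nonempty := by
    rw [Finset.nonempty_iff_ne_empty]
    intro hA0
    rw [hA0, Finset.card_empty, Nat.cast_zero, mul_zero] at hmain
    exact (mul_eq_zero.mp hmain).elim (Nat.cast_ne_zero.mpr Nat.card_pos.ne') hT
  rw [hA, Finset.mem_filter] at ha₀
  obtain ⟨c₀, hc₀⟩ := isConj_iff.mp ha₀.2
  -- `u₀` inverts `x`
  set u₀ := c₀⁻¹ * v * c₀ with hu₀
  have hu2 : u₀ * u₀ = 1 := by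
    rw [hu₀, show c₀⁻¹ * v * c₀ * (c₀⁻¹ * v * c₀) = c₀⁻¹ * (v * v) * c₀ by group, hv]
    group
  have hu₀i : u₀⁻¹ = u₀ := inv_eq_of_mul_eq_one_left hu2
  have hvi : v⁻¹ = v := inv_eq_of_mul_eq_one_left hv
  have hxu : u₀ * x = c₀⁻¹ * a₀ * v * a₀⁻¹ * c₀ := by
    calc u₀ * x = c₀⁻¹ * (v * (c₀ * x * c₀⁻¹)) * c₀ := by rw [hu₀]; group
      _ = c₀⁻¹ * (v * v) * (a₀ * v * a₀⁻¹) * c₀ := by rw [hc₀]; group
      _ = _ := by rw [hv]; group
  set w := a₀ with hw
  -- any element inverting `x` is conjugate to `u₀` under `⟨x⟩`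
  have hinv : ∀ u : G, u * u = 1 → u * x * u⁻¹ = x⁻¹ → ∃ z ∈ Subgroup.zpowers x,
      z * u₀ * z⁻¹ = u := by
    intro u hu hux
    have hu₀x : u₀ * x * u₀⁻¹ = x⁻¹ := by
      have h1 : u₀ * x * (u₀ * x) = 1 := by
        rw [hxu]
        calc c₀⁻¹ * w * v * w⁻¹ * c₀ * (c₀⁻¹ * w * v * w⁻¹ * c₀)
            = c₀⁻¹ * w * (v * v) * w⁻¹ * c₀ := by group
          _ = 1 := by rw [hv]; group
      have h2 := eq_inv_of_mul_eq_one_left h1
      rw [hu₀i]
      calc u₀ * x * u₀ = u₀ * x * (u₀ * x) * x⁻¹ := by group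
        _ = x⁻¹ := by rw [h1, one_mul]
    have hy : u₀⁻¹ * u ∈ Subgroup.zpowers x := by
      rw [← hC, Subgroup.mem_centralizer_singleton_iff]
      have e1 : u₀⁻¹ * u * x * (u₀⁻¹ * u)⁻¹ = x := by
        calc u₀⁻¹ * u * x * (u₀⁻¹ * u)⁻¹ = u₀⁻¹ * (u * x * u⁻¹) * u₀ := by group
          _ = u₀⁻¹ * (u₀ * x * u₀⁻¹) * u₀ := by rw [hux, hu₀x]
          _ = x := by group
      exact mul_inv_eq_iff_eq_mul.mp e1
    obtain ⟨i, hi⟩ := Subgroup.mem_zpowers_iff.mp hy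
    obtain ⟨k, hk⟩ : Odd p := hp.odd_of_ne_two hp2
    refine ⟨x ^ (-(i * ((k : ℤ) + 1))), Subgroup.zpow_mem_zpowers _ _, ?_⟩
    have hflip : ∀ j : ℤ, x ^ j * u₀ = u₀ * x ^ (-j) := by
      intro j
      have h1 : (u₀ * x * u₀⁻¹) ^ (-j) = x ^ j := by rw [hu₀x, inv_zpow, ← zpow_neg, neg_neg]
      rw [conj_zpow] at h1
      rw [← h1, inv_mul_cancel_right]
    rw [hflip, mul_assoc, ← zpow_neg, ← zpow_add]
    have hxp : x ^ ((p : ℕ) : ℤ) = 1 := by rw [zpow_natCast, ← hx, pow_orderOf_eq_one]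
    rw [show -(-(i * ((k : ℤ) + 1))) + -(-(i * ((k : ℤ) + 1))) = i + ((p : ℕ) : ℤ) * i by
      rw [hk]; push_cast; ring, zpow_add, zpow_mul, hxp, one_zpow, mul_one, hi,
      mul_inv_cancel_left]
  have hmemA : ∀ a : G, a ∈ A ↔ ∃ r s : Cv, (r : G) * w * (s : G) = a := by
    intro a
    rw [hA, Finset.mem_filter]
    constructor
    · rintro ⟨-, ha⟩
      obtain ⟨c, hc⟩ := isConj_iff.mp ha
      have h1 : c⁻¹ * v * c * x = c⁻¹ * (a * v * a⁻¹) * c := by
        calc c⁻¹ * v * c * x = c⁻¹ * (v * (c * x * c⁻¹)) * c := by group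
          _ = c⁻¹ * (v * v) * (a * v * a⁻¹) * c := by rw [hc]; group
          _ = _ := by rw [hv]; group
      have h2 : c⁻¹ * v * c * (c⁻¹ * v * c) = 1 := by
        rw [show c⁻¹ * v * c * (c⁻¹ * v * c) = c⁻¹ * (v * v) * c by group, hv]; group
      have h3 : c⁻¹ * v * c * x * (c⁻¹ * v * c)⁻¹ = x⁻¹ := by
        have h4 : c⁻¹ * v * c * x * (c⁻¹ * v * c * x) = 1 := by
          rw [h1, show c⁻¹ * (a * v * a⁻¹) * c * (c⁻¹ * (a * v * a⁻¹) * c) =
            c⁻¹ * a * (v * v) * a⁻¹ * c by group, hv]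
          group
        rw [inv_eq_of_mul_eq_one_left h2]
        calc c⁻¹ * v * c * x * (c⁻¹ * v * c)
            = c⁻¹ * v * c * x * (c⁻¹ * v * c * x) * x⁻¹ := by group
          _ = x⁻¹ := by rw [h4, one_mul]
      obtain ⟨z, hz, hzu⟩ := hinv _ h2 h3
      have hzx : z * x = x * z := by
        rw [← hC] at hz; exact Subgroup.mem_centralizer_singleton_iff.mp hz
      -- replace `c` by `c * z`
      set c' := c * z with hc'
      have e1 : c'⁻¹ * v * c' = u₀ := by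
        rw [hc', show (c * z)⁻¹ * v * (c * z) = z⁻¹ * (c⁻¹ * v * c) * z by group, ← hzu]
        group
      have hr : c' * c₀⁻¹ ∈ Cv := by
        rw [hCv, Subgroup.mem_centralizer_singleton_iff]
        calc c' * c₀⁻¹ * v = c' * (c₀⁻¹ * v * c₀) * c₀⁻¹ := by group
          _ = c' * (c'⁻¹ * v * c') * c₀⁻¹ := by rw [e1]
          _ = v * (c' * c₀⁻¹) := by group
      have e2 : (c' * c₀⁻¹ * w) * v * (c' * c₀⁻¹ * w)⁻¹ = a * v * a⁻¹ := by
        calc (c' * c₀⁻¹ * w) * v * (c' * c₀⁻¹ * w)⁻¹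
            = c' * (c₀⁻¹ * w * v * w⁻¹ * c₀) * c'⁻¹ := by group
          _ = c' * (c'⁻¹ * v * c' * x) * c'⁻¹ := by rw [← hxu, e1]
          _ = c * (c⁻¹ * v * c * (z * x * z⁻¹)) * c⁻¹ := by rw [hc']; group
          _ = c * (c⁻¹ * v * c * x) * c⁻¹ := by rw [hzx]; group
          _ = _ := by rw [h1]; group
      have hs : (c' * c₀⁻¹ * w)⁻¹ * a ∈ Cv := by
        rw [hCv, Subgroup.mem_centralizer_singleton_iff]
        set r := c' * c₀⁻¹ * w
        calc r⁻¹ * a * v = r⁻¹ * (a * v * a⁻¹) * a := by group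
          _ = r⁻¹ * (r * v * r⁻¹) * a := by rw [e2]
          _ = _ := by group
      exact ⟨⟨_, hr⟩, ⟨_, hs⟩, by simp [mul_assoc]⟩
    · rintro ⟨⟨r, hr⟩, ⟨s, hs⟩, rfl⟩
      rw [hCv, Subgroup.mem_centralizer_singleton_iff] at hr hs
      refine ⟨Finset.mem_univ _, isConj_iff.mpr ⟨r * c₀, ?_⟩⟩
      calc r * c₀ * x * (r * c₀)⁻¹ = r * (c₀ * x * c₀⁻¹) * r⁻¹ := by group
        _ = (r * v) * (w * v * w⁻¹) * r⁻¹ := by rw [hc₀]; group
        _ = v * r * (w * v * w⁻¹) * r⁻¹ := by rw [hr]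
        _ = v * (r * w * v * w⁻¹ * r⁻¹) := by group
        _ = v * (r * w * (s * v * s⁻¹) * w⁻¹ * r⁻¹) := by rw [hs]; group
        _ = _ := by group
  have htriv : ∀ t : G, t * v = v * t → Commute (w⁻¹ * t * w) v → t = 1 := by
    intro t ht hs
    have h1 : Commute (c₀⁻¹ * t * c₀) u₀ := by
      show c₀⁻¹ * t * c₀ * u₀ = u₀ * (c₀⁻¹ * t * c₀)
      calc c₀⁻¹ * t * c₀ * u₀ = c₀⁻¹ * (t * v) * c₀ := by rw [hu₀]; group
        _ = c₀⁻¹ * (v * t) * c₀ := by rw [ht]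
        _ = _ := by rw [hu₀]; group
    have h2 : Commute (c₀⁻¹ * t * c₀) (u₀ * x) := by
      rw [hxu]
      show c₀⁻¹ * t * c₀ * (c₀⁻¹ * w * v * w⁻¹ * c₀) = c₀⁻¹ * w * v * w⁻¹ * c₀ * (c₀⁻¹ * t * c₀)
      calc c₀⁻¹ * t * c₀ * (c₀⁻¹ * w * v * w⁻¹ * c₀)
          = c₀⁻¹ * w * (w⁻¹ * t * w * v) * w⁻¹ * c₀ := by group
        _ = c₀⁻¹ * w * (v * (w⁻¹ * t * w)) * w⁻¹ * c₀ := by rw [hs.eq]
        _ = _ := by group
    have h3 : Commute (c₀⁻¹ * t * c₀) x := by
      have := h1.inv_right.mul_right h2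
      rwa [inv_mul_cancel_left] at this
    have h4 : c₀⁻¹ * t * c₀ ∈ Subgroup.zpowers x := by
      rw [← hC]; exact Subgroup.mem_centralizer_singleton_iff.mpr h3.eq
    obtain ⟨i, hi⟩ := Subgroup.mem_zpowers_iff.mp h4
    have hu₀x : u₀ * x * u₀⁻¹ = x⁻¹ := by
      rw [hu₀i]
      have e : u₀ * x * (u₀ * x) = 1 := by
        rw [hxu]
        calc c₀⁻¹ * w * v * w⁻¹ * c₀ * (c₀⁻¹ * w * v * w⁻¹ * c₀)
            = c₀⁻¹ * w * (v * v) * w⁻¹ * c₀ := by group
          _ = 1 := by rw [hv]; group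
      calc u₀ * x * u₀ = u₀ * x * (u₀ * x) * x⁻¹ := by group
        _ = x⁻¹ := by rw [e, one_mul]
    have h5 : x ^ i = (x ^ i)⁻¹ := by
      have e1 : (u₀ * x * u₀⁻¹) ^ i = (x ^ i)⁻¹ := by rw [hu₀x, inv_zpow]
      rw [conj_zpow] at e1
      rw [← e1]
      rw [← hi] at h1
      rw [← h1.eq, mul_inv_cancel_right]
    have h6 : x ^ i = 1 := by
      have hd : orderOf (x ^ i) ∣ 2 := orderOf_dvd_of_pow_eq_one (by
        rw [pow_two]; nth_rw 2 [h5]; rw [mul_inv_cancel])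
      have hd' : orderOf (x ^ i) ∣ p := by
        rw [← hcx, hC]
        exact Subgroup.orderOf_dvd_natCard _ (Subgroup.zpow_mem_zpowers _ _)
      have := Nat.eq_one_of_dvd_coprimes
        ((Nat.coprime_primes hp Nat.prime_two).mpr hp2) hd' hd
      exact orderOf_eq_one_iff.mp this
    have : t = c₀ * x ^ i * c₀⁻¹ := by rw [hi]; group
    rw [this, h6, mul_one, mul_inv_cancel]
  have hinj : Function.Injective fun rs : Cv × Cv => (rs.1 : G) * w * (rs.2 : G) := by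
    rintro ⟨r, s⟩ ⟨r', s'⟩ h
    simp only at h
    have hmul : (r' : G)⁻¹ * r = w * ((s' : G) * (s : G)⁻¹) * w⁻¹ := by
      calc (r' : G)⁻¹ * r = (r' : G)⁻¹ * ((r : G) * w * s) * (s : G)⁻¹ * w⁻¹ := by group
        _ = _ := by rw [h]; group
    have ht : ((r' : G)⁻¹ * r) * v = v * ((r' : G)⁻¹ * r) :=
      Subgroup.mem_centralizer_singleton_iff.mp (mul_mem (inv_mem r'.2) r.2)
    have hs' : Commute (w⁻¹ * ((r' : G)⁻¹ * r) * w) v := by
      rw [hmul, show w⁻¹ * (w * ((s' : G) * (s : G)⁻¹) * w⁻¹) * w = (s' : G) * (s : G)⁻¹ by group]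
      exact Subgroup.mem_centralizer_singleton_iff.mp (mul_mem s'.2 (inv_mem s.2))
    have h1 := htriv _ ht hs'
    have hr : r = r' := Subtype.ext (inv_mul_eq_one.mp h1).symm
    subst hr
    exact Prod.ext rfl (Subtype.ext (mul_left_cancel h))
  have hcard : A.card = Nat.card Cv * Nat.card Cv := by
    have : A = Finset.univ.image fun rs : Cv × Cv => (rs.1 : G) * w * (rs.2 : G) := by
      ext a
      rw [hmemA a, Finset.mem_image]
      simp only [Finset.mem_univ, true_and, Prod.exists]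
    rw [this, Finset.card_image_of_injective _ hinj, Finset.card_univ, Fintype.card_prod,
      Nat.card_eq_fintype_card]
  rw [hcard]
  push_cast
  ring

end Cfsg.Agent.Lib.NineTwoQ78.Count
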