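import Cfsg.Agent.Lib.FpfBlock.Principal
import Cfsg.Agent.Lib.H80.ClassMult
import Cfsg.Agent.Lib.FirstPower.Consequences
import Cfsg.Agent.Lib.NineTwoQ78.Bound

/-!
# A Sylow 3-subgroup of order nine inverted by its normalizer
-/

set_option autoImplicit false
set_option linter.style.haveILetI false

namespace Cfsg.Agent.Lib.NineTwoQ78.Inversion

open Cfsg.Agent.Lib Cfsg.Agent.Lib.Blocks Cfsg.Agent.Lib.Characters.Basic
open Cfsg.Agent.Lib.FpfBlock.Setting Cfsg.Agent.Lib.FpfBlock.Principal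

universe u

theorem out {G : Type u} [Group G] [Finite G] [IsSimpleGroup G] (hG : ¬ IsMulCommutative G)
    {q a b : ℕ} (hq : q.Prime) (hq2 : q ≠ 2) (hq3 : q ≠ 3)
    (hcard : Nat.card G = 9 * 2 ^ a * q ^ b) (P : Sylow 3 G) (h9 : Nat.card (P : Subgroup G) = 9)
    {n : G} (hF : Fpf P n 2) : One.Out G := by
  classical
  haveI : Fact (Nat.Prime 3) := ⟨Nat.prime_three⟩
  haveI := Fintype.ofFinite G
  haveI := Fintype.ofFinite (P : Subgroup G)
  haveI := finite_dual hF
  haveI := Fintype.ofFinite ((P : Subgroup G) →* ℂˣ)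
  obtain ⟨M, hM⟩ := exists_isPModular 3 Nat.prime_three
  haveI := hM.2.1
  obtain ⟨Y, c, d, δ, ζ, hδ, hYB, h1Y, hYc, hc1, hX, hζY, hYζ, -, hζval, hnorm, -, hrel⟩ :=
    exists_split hF M hM (by omega)
  have hY4 : Y.card = 4 := by omega
  set T := (Set.toFinite (Cfsg.principalBlock M G \ ↑Y)).toFinset with hT
  have hTmem : ∀ χ, χ ∈ T ↔ χ ∈ Cfsg.principalBlock M G ∧ χ ∉ Y := fun χ => by simp [hT]
  rw [finsum_mem_eq_finite_toFinset_sum _ (Set.toFinite _), ← hT, hY4] at hnorm
  have h1T : oneChar G ∈ T := (hTmem _).2 ⟨oneChar_mem_principalBlock, h1Y⟩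
  have hpos : ∀ χ ∈ T, 1 ≤ c χ ^ 2 := fun χ hχ => by
    have := (hX χ ((hTmem χ).1 hχ).1 ((hTmem χ).1 hχ).2).1
    have := Int.one_le_abs this
    nlinarith [sq_abs (c χ), abs_nonneg (c χ)]
  have hSge : (T.card : ℤ) ≤ ∑ χ ∈ T, c χ ^ 2 := by
    simpa using Finset.card_nsmul_le_sum T _ _ hpos
  have hT1 : 1 ≤ T.card := Finset.card_pos.2 ⟨_, h1T⟩
  have hd0 : d = 0 := by
    by_contra hd
    have := Int.one_le_abs hd
    have h1 : 1 ≤ d ^ 2 := by nlinarith [sq_abs d, abs_nonneg d]
    push_cast at hnorm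
    nlinarith [sq_nonneg (d - δ)]
  subst hd0
  have hδ2 : δ ^ 2 = 1 := by rcases hδ with h | h <;> rw [h] <;> norm_num
  push_cast at hnorm
  rw [zero_sub, neg_sq, hδ2, ← Finset.add_sum_erase _ _ h1T, hc1] at hnorm
  have hrest : ∑ χ ∈ T.erase (oneChar G), c χ ^ 2 = 1 := by linarith
  obtain ⟨χ, hχ⟩ : ∃ χ, T.erase (oneChar G) = {χ} := by
    refine Finset.card_eq_one.1 (le_antisymm ?_ (Finset.card_pos.2 ?_))
    · have : ((T.erase (oneChar G)).card : ℤ) ≤ ∑ χ ∈ T.erase (oneChar G), c χ ^ 2 := by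
        simpa using Finset.card_nsmul_le_sum (T.erase (oneChar G)) _ _
          (fun χ hχ => hpos χ (Finset.mem_of_mem_erase hχ))
      omega
    · rw [Finset.nonempty_iff_ne_empty]
      intro he
      rw [he, Finset.sum_empty] at hrest
      exact zero_ne_one hrest
  rw [hχ, Finset.sum_singleton] at hrest
  have hcχ : c χ = 1 ∨ c χ = -1 := sq_eq_one_iff.1 hrest
  obtain ⟨hχne, hχT⟩ := Finset.mem_erase.1 (hχ ▸ Finset.mem_singleton_self χ : χ ∈ T.erase (oneChar G))
  obtain ⟨hχB, hχY⟩ := (hTmem χ).1 hχT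
  have hself : ∀ y : (P : Subgroup G), Cfsg.IsPPart 3 (y : G) (y : G) := fun y => by
    obtain ⟨k, hk⟩ := IsPGroup.iff_orderOf.1 P.2 y
    exact isPPart_self Nat.prime_three ⟨k, by rw [Subgroup.orderOf_coe, hk]⟩
  have hval : ∀ y : (P : Subgroup G), y ≠ 1 → (χ : G → ℂ) y = (c χ : ℂ) := fun y hy =>
    (hX χ hχB hχY).2 y y (hself y) y.2 fun e => hy (Subtype.ext e)
  have hsumP : ∀ f : ↥(P : Subgroup G) → ℂ,
      ∑ y, f y = f 1 + ∑ y ∈ Finset.univ.erase 1, f y := fun f =>
    (Finset.add_sum_erase _ f (Finset.mem_univ 1)).symm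
  have hcardP : (Finset.univ.erase (1 : (P : Subgroup G))).card = 8 := by
    rw [Finset.card_erase_of_mem (Finset.mem_univ _), Finset.card_univ, ← Nat.card_eq_fintype_card,
      h9]
  -- the sums of the exceptional characters
  have hYsum : ∀ η ∈ Y, ∑ y ∈ (Finset.univ.erase (1 : (P : Subgroup G))), (η : G → ℂ) y =
      ((-2 * δ : ℤ) : ℂ) := by
    intro η hη
    obtain ⟨ψ, hψ, rfl⟩ := hYζ η hη
    rw [Finset.sum_congr rfl fun y hy => show (ζ ψ : G → ℂ) (y : (P : Subgroup G)) = _ from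
      hζval ψ hψ (y : G) y (hself y) fun e => Finset.ne_of_mem_erase hy (Subtype.ext e)]
    simp only [Int.cast_zero, zero_add, ← Finset.mul_sum]
    rw [Finset.sum_comm]
    have horb : ∀ ψ' ∈ orbit hF ψ, ∑ y ∈ (Finset.univ.erase (1 : (P : Subgroup G))),
        ((ψ' y : ℂˣ) : ℂ) = -1 := by
      intro ψ' hψ'
      have h := sum_elems (P := P) ψ'
      have hne : ψ' ≠ 1 := by
        simp only [orbit, Finset.mem_filter, Finset.mem_erase] at hψ'
        exact hψ'.1.1
      rw [if_neg hne, hsumP, map_one,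
        Units.val_one] at h
      linear_combination h
    have hoc : (orbit hF ψ).card = 2 := by
      rw [orbit]
      convert orbit_card hF hψ
    rw [Finset.sum_congr rfl horb, Finset.sum_const, hoc]
    push_cast
    ring
  have hcong : ∀ (θ : Cfsg.IrrCharacter G) (s : ℤ),
      ∑ y ∈ (Finset.univ.erase (1 : (P : Subgroup G))), (θ : G → ℂ) y = s →
      (9 : ℤ) ∣ (Cfsg.charDegree (θ : G → ℂ) : ℤ) + s := by
    intro θ s hs
    obtain ⟨k, hk⟩ := H80.ClassMult.exists_sum_subgroup θ (P : Subgroup G)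
    rw [hsumP, hs, OneMemClass.coe_one, DegreeBounds.Basic.charDegree_irr, h9] at hk
    exact ⟨k, by exact_mod_cast hk⟩
  have hχsum : ∑ y ∈ (Finset.univ.erase (1 : (P : Subgroup G))), (χ : G → ℂ) y =
      ((8 * c χ : ℤ) : ℂ) := by
    rw [Finset.sum_congr rfl fun y hy => hval y (Finset.ne_of_mem_erase hy), Finset.sum_const, hcardP]
    push_cast; ring
  -- rationality
  have hrat : Bound.Rat' χ := by
    refine Bound.rat_of_fixed χ fun k hk g => ?_
    have hmem : PrincipalCore.Rational.powIrr hk χ ∈ Cfsg.principalBlock M G :=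
      PrincipalCore.Rational.image_powIrr hM hk ▸ Set.mem_image_of_mem _ hχB
    have hnY : PrincipalCore.Rational.powIrr hk χ ∉ Y := by
      intro hY'
      have h1 := hYsum _ hY'
      rw [Finset.sum_congr rfl (g := fun _ => (c χ : ℂ)) fun y hy => ?_, Finset.sum_const,
        hcardP] at h1
      · have h1' : 8 * c χ = -2 * δ := by
          have : ((8 * c χ : ℤ) : ℂ) = ((-2 * δ : ℤ) : ℂ) := by
            push_cast; push_cast at h1; rw [← h1]; ring
          exact_mod_cast this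
        omega
      · rw [PrincipalCore.Rational.powIrr_apply, ← SubmonoidClass.coe_pow]
        refine hval _ fun e => Finset.ne_of_mem_erase hy ?_
        have hcop : Nat.Coprime (Nat.card (P : Subgroup G)) k :=
          (hk.symm.coprime_dvd_left (Subgroup.card_subgroup_dvd_card _))
        exact (powCoprime hcop).injective (show y ^ k = 1 ^ k by rw [e, one_pow])
    have hne : PrincipalCore.Rational.powIrr hk χ ≠ oneChar G := fun e => hχne <|
      PrincipalCore.Rational.powIrr_injective hk (e.trans (Subtype.ext (funext fun g => by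
        rw [PrincipalCore.Rational.powIrr_apply, oneChar_apply, oneChar_apply])).symm)
    have : PrincipalCore.Rational.powIrr hk χ ∈ T.erase (oneChar G) :=
      Finset.mem_erase.2 ⟨hne, (hTmem _).2 ⟨hmem, hnY⟩⟩
    rw [hχ, Finset.mem_singleton] at this
    exact congrFun (congrArg Subtype.val this) g
  -- the degrees
  obtain ⟨η, hη⟩ : Y.Nonempty := Finset.card_pos.1 (by omega)
  set D := Cfsg.charDegree (η : G → ℂ) with hD
  set f := Cfsg.charDegree (χ : G → ℂ) with hf
  have hdeg : -δ * (D : ℤ) + (1 + c χ * f) = 0 := by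
    have h := hrel η hη 1 (by simp)
    rw [finsum_mem_eq_finite_toFinset_sum _ (Set.toFinite _), ← hT,
      ← Finset.add_sum_erase _ _ h1T, hχ, Finset.sum_singleton, hc1, oneChar_apply,
      DegreeBounds.Basic.charDegree_irr, DegreeBounds.Basic.charDegree_irr, ← hD, ← hf] at h
    push_cast at h
    have h' : ((-δ * (D : ℤ) + (1 + c χ * f) : ℤ) : ℂ) = ((0 : ℤ) : ℂ) := by
      push_cast
      linear_combination h
    exact_mod_cast h'
  have hf9 := hcong χ _ hχsum
  have hD9 := hcong η _ (hYsum η hη)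
  rw [← hf] at hf9
  rw [← hD] at hD9
  have hperf := SmallGroups.Sylow.commutator_eq_top hG
  have hf0 : 0 < f := DegreeBounds.Basic.charDegree_pos χ
  have hD0 : 0 < D := DegreeBounds.Basic.charDegree_pos η
  have hf1 : 1 < f := by
    rcases Nat.lt_or_ge 1 f with h | h
    · exact h
    · exact absurd (FirstPower.Consequences.charDegree_eq_one_of_perfect hperf χ (by omega)) hχne
  have hcases : (D : ℤ) = f + 1 ∨ (D : ℤ) + 1 = f := by
    rcases hδ with h | h <;> rcases hcχ with h' | h' <;> rw [h, h'] at hdeg <;> omega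
  have hp := Bound.pair hq hq2 hq3 (d := f) (e := D) hf1
    (by rcases hδ with h | h <;> omega) (hcard ▸ DegreeBounds.Basic.charDegree_dvd χ)
    (hcard ▸ DegreeBounds.Basic.charDegree_dvd η)
    (by rcases hcχ with h | h <;> omega) (by rcases hδ with h | h <;> omega) (by omega)
  have hfq : f ≤ q + 1 := by rcases hp with ⟨e, -⟩ | ⟨e, -⟩ <;> omega
  refine Bound.of_rat hG hq hq2 hq3 hcard hχne hrat hfq fun h5 => absurd h5 ?_
  rcases hδ with h | h <;> rcases hcχ with h' | h' <;> rw [h, h'] at hdeg <;>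
    rcases hp with ⟨e, -⟩ | ⟨e, -⟩ <;> omega

end Cfsg.Agent.Lib.NineTwoQ78.Inversion
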