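import Cfsg.Agent.Lib.Brauer.HallExtension
import Cfsg.Agent.Lib.FpfBlock.Setting

/-!
# Class functions of a Sylow subgroup as functions of the `p`-part
-/

set_option autoImplicit false
set_option linter.style.haveILetI false

namespace Cfsg.Agent.Lib.NineTwoQ78.Lift

open Cfsg Cfsg.Agent.Lib Cfsg.Agent.Lib.Brauer.Induction Cfsg.Agent.Lib.Brauer.Elementary

universe u

variable {G : Type u} [Group G] [Finite G] {p : ℕ} [Fact p.Prime] (P : Sylow p G)

theorem coprime_index : Nat.Coprime (Nat.card (P : Subgroup G)) (P : Subgroup G).index := by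
  obtain ⟨k, hk⟩ := IsPGroup.iff_card.1 P.2
  rw [hk]
  exact ((Fact.out : p.Prime).coprime_iff_not_dvd.2 P.not_dvd_index).pow_left k

/-- The exponent taking the `p`-part. -/
noncomputable def pExp : ℕ :=
  (Nat.chineseRemainder (coprime_index P) 1 0).1

theorem pExp_one : pExp P ≡ 1 [MOD Nat.card (P : Subgroup G)] :=
  (Nat.chineseRemainder (coprime_index P) 1 0).2.1

theorem pExp_zero : pExp P ≡ 0 [MOD (P : Subgroup G).index] :=
  (Nat.chineseRemainder (coprime_index P) 1 0).2.2

theorem order_dvd_card {x : G} (hx : ∃ k, orderOf x = p ^ k) :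
    orderOf x ∣ Nat.card (P : Subgroup G) := by
  obtain ⟨c, hc⟩ := FpfBlock.Setting.exists_conj_mem (P := P) hx
  rw [show orderOf x = orderOf (c * x * c⁻¹) from (MulEquiv.orderOf_eq (MulAut.conj c) x).symm]
  exact Subgroup.orderOf_dvd_natCard _ hc

theorem pow_eq_of_isPPart {g x : G} (h : Cfsg.IsPPart p g x) : g ^ pExp P = x := by
  obtain ⟨v, hg, hc, hx, hv⟩ := h
  have h1 : x ^ pExp P = x := by
    conv_rhs => rw [← pow_one x]
    rw [pow_eq_pow_iff_modEq]
    exact (pExp_one P).of_dvd (order_dvd_card P hx)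
  have h2 : v ^ pExp P = 1 := by
    rw [← orderOf_dvd_iff_pow_eq_one]
    refine dvd_trans ?_ (Nat.modEq_zero_iff_dvd.1 (pExp_zero P))
    obtain ⟨k, hk⟩ := IsPGroup.iff_card.1 P.2
    refine (((Fact.out : p.Prime).coprime_iff_not_dvd.2 hv).symm.pow_right k).dvd_of_dvd_mul_left ?_
    rw [← hk, Subgroup.card_mul_index]
    exact orderOf_dvd_natCard v
  rw [← hg, hc.mul_pow, h1, h2, mul_one]

theorem exists_conj_pow (g : G) : ∃ c : G, c * g ^ pExp P * c⁻¹ ∈ (P : Subgroup G) := by
  obtain ⟨u, hu⟩ := Blocks.exists_isPPart (G := G) (Fact.out : p.Prime) g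
  rw [pow_eq_of_isPPart P hu]
  obtain ⟨v, -, -, hpow, -⟩ := hu
  exact FpfBlock.Setting.exists_conj_mem hpow

/-- The value at the `p`-part. -/
noncomputable def lift (θ : ↥(P : Subgroup G) → ℂ) (g : G) : ℂ :=
  θ ⟨_, (exists_conj_pow P g).choose_spec⟩

/-- Constant on the classes of the group. -/
def Fused (θ : ↥(P : Subgroup G) → ℂ) : Prop :=
  ∀ x y : (P : Subgroup G), IsConj (x : G) (y : G) → θ x = θ y

variable {P}

theorem lift_eq {θ : ↥(P : Subgroup G) → ℂ} (hθ : Fused P θ) {g : G} {h : (P : Subgroup G)}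
    (hc : IsConj (g ^ pExp P) (h : G)) : lift P θ g = θ h :=
  hθ _ _ ((isConj_iff.2 ⟨_, rfl⟩ : IsConj (g ^ pExp P) _).symm.trans hc)

theorem lift_classFun {θ : ↥(P : Subgroup G) → ℂ} (hθ : Fused P θ) :
    IsClassFunction G (lift P θ) := by
  intro x y
  refine lift_eq hθ (h := ⟨_, (exists_conj_pow P x).choose_spec⟩) ?_
  rw [conj_pow]
  exact (isConj_iff.2 ⟨y, rfl⟩).symm.trans (isConj_iff.2 ⟨(exists_conj_pow P x).choose, rfl⟩)

/-- It is a generalized character. -/
theorem lift_isGen [Fintype G] {θ : ↥(P : Subgroup G) → ℂ} (hθ : Fused P θ)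
    (hch : IsCharacter (P : Subgroup G) θ) : IsGeneralizedCharacter G (lift P θ) := by
  apply Brauer.Characterization.isGeneralized_of_mem
  refine Brauer.Characterization.mem_of_elementary ℤ (lift_classFun hθ) fun E _ q hq hel => ?_
  have hcard : Nat.card E ∣ (P : Subgroup G).index * Nat.card (P : Subgroup G) := by
    rw [mul_comm, Subgroup.card_mul_index]; exact Subgroup.card_subgroup_dvd_card E
  have hmul := Brauer.HallExtension.pow_mul_of_elementary hq hel hcard (coprime_index P).symm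
    (pExp_zero P) (pExp_one P)
  let s : E →* G := MonoidHom.mk' (fun e => ((e ^ pExp P : E) : G)) (fun a b => by
    show ((_ : E) : G) = _
    rw [hmul]; rfl)
  have hs : IsPGroup p s.range := by
    rintro ⟨_, e, rfl⟩
    obtain ⟨u, hu⟩ := Blocks.exists_isPPart (G := G) (Fact.out : p.Prime) (e : G)
    have he : s e = u := by
      show ((e ^ pExp P : E) : G) = u
      rw [SubmonoidClass.coe_pow, pow_eq_of_isPPart P hu]
    obtain ⟨v, -, -, ⟨k, hk⟩, -⟩ := hu
    exact ⟨k, Subtype.ext (by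
      show (s e) ^ p ^ k = 1
      rw [he, ← hk, pow_orderOf_eq_one])⟩
  obtain ⟨Q, hQ⟩ := hs.exists_le_sylow
  obtain ⟨c, hc⟩ := MulAction.exists_smul_eq G Q P
  have hmem : ∀ e : E, c * s e * c⁻¹ ∈ (P : Subgroup G) := fun e => by
    rw [← hc, Sylow.coe_subgroup_smul]
    simpa using Subgroup.smul_mem_pointwise_smul (a := MulAut.conj c) (s e) (Q : Subgroup G)
      (hQ ⟨e, rfl⟩)
  let φ : E →* (P : Subgroup G) :=
    ((MulAut.conj c).toMonoidHom.comp s).codRestrict (P : Subgroup G) hmem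
  have hφ : (fun e : E => lift P θ (e : G)) = θ ∘ φ := by
    funext e
    refine lift_eq hθ (isConj_iff.2 ⟨c, ?_⟩)
    show c * _ * c⁻¹ = c * ((e ^ pExp P : E) : G) * c⁻¹
    simp
  rw [hφ]
  have hsub : monoSet (IsElem (G := E)) ⊆
      monoSet (fun _ : Subgroup E => True) :=
    fun f ⟨K, _, l, hl⟩ => ⟨K, trivial, l, hl⟩
  exact Submodule.span_mono hsub
    (Brauer.Monomial.genChar_mem
      (Induced.Generalized.of_isCharacter (Characters.Basic.isCharacter_comp φ hch)))

end Cfsg.Agent.Lib.NineTwoQ78.Lift
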