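import Cfsg.Agent.S0942
import Cfsg.Agent.S0947
import Cfsg.Agent.Lib.Blocks.Orthogonality
import Cfsg.Agent.Lib.BrauerMap.PrincipalSection
import Cfsg.Agent.Lib.Chars82.PrincipalBlock
import Cfsg.Agent.Lib.Cores.Basic

/-!
# The principal block on the section of an element whose centralizer has a normal complement
-/

set_option autoImplicit false
set_option linter.style.haveILetI false

namespace Cfsg.Agent.Lib.NineTwoQ78.Section

open Cfsg.Agent.Lib.Blocks Cfsg.Agent.Lib.Characters.Basic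
open scoped ComplexConjugate

universe u

variable {G : Type u} [Group G] [Finite G] {p : ℕ} [Fact p.Prime]

/-- A normal `p`-complement in the centralizer of an element of an abelian Sylow subgroup. -/
theorem complement (P : Sylow p G)
    (hcomm : ∀ a ∈ (P : Subgroup G), ∀ b ∈ (P : Subgroup G), a * b = b * a) {x : G}
    (hx : x ∈ (P : Subgroup G))
    (hcen : ∀ c ∈ Subgroup.normalizer ((P : Subgroup G) : Set G), Commute c x →
      c ∈ Subgroup.centralizer ((P : Subgroup G) : Set G)) :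
    ∃ K : Subgroup (Subgroup.centralizer ({x} : Set G)), K.Normal ∧ ¬ p ∣ Nat.card K ∧
      K.index = Nat.card (P : Subgroup G) := by
  set C := Subgroup.centralizer ({x} : Set G)
  have hle : (P : Subgroup G) ≤ C := fun a ha =>
    Subgroup.mem_centralizer_singleton_iff.2 (hcomm a ha x hx)
  set Q : Sylow p C := P.subtype hle with hQ
  have hQmem : ∀ a : C, a ∈ (Q : Subgroup C) ↔ (a : G) ∈ (P : Subgroup G) := by
    intro a
    rw [hQ, Sylow.coe_subtype]
    rfl
  have hN : Subgroup.normalizer ((Q : Subgroup C) : Set C) ≤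
      Subgroup.centralizer ((Q : Subgroup C) : Set C) := by
    intro c hc a ha
    have h1 : ∀ w ∈ (P : Subgroup G), (c : G) * w * (c : G)⁻¹ ∈ (P : Subgroup G) := fun w hw =>
      (hQmem (c * ⟨w, hle hw⟩ * c⁻¹)).1
        ((Subgroup.mem_normalizer_iff.1 hc ⟨w, hle hw⟩).1 ((hQmem ⟨w, hle hw⟩).2 hw))
    have hcN : (c : G) ∈ Subgroup.normalizer ((P : Subgroup G) : Set G) :=
      Subgroup.mem_normalizer_iff_map_conj_eq.2 <| Subgroup.eq_of_le_of_card_ge
        (by rintro _ ⟨w, hw, rfl⟩; exact h1 w hw)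
        (by rw [Subgroup.card_map_of_injective (MulEquiv.injective _)])
    exact Subtype.ext (Subgroup.mem_centralizer_iff.1
      (hcen c hcN (Subgroup.mem_centralizer_singleton_iff.1 c.2)) a ((hQmem a).1 ha))
  have hc := MonoidHom.ker_transferSylow_isComplement' Q hN
  refine ⟨(MonoidHom.transferSylow Q hN).ker, inferInstance,
    MonoidHom.not_dvd_card_ker_transferSylow Q hN, ?_⟩
  rw [hc.symm.index_eq_card, hQ, Sylow.coe_subtype]
  exact Nat.card_congr (Subgroup.subgroupOfEquivOfLe hle).toEquiv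

open scoped Classical in
/-- The column relation of the principal block at `x`: the section indicator times `p ^ k`. -/
theorem column (P : Sylow p G) {x : G} (hx1 : x ≠ 1) (hxP : x ∈ (P : Subgroup G))
    (hK : ∃ K : Subgroup (Subgroup.centralizer ({x} : Set G)), K.Normal ∧ ¬ p ∣ Nat.card K ∧
      K.index = Nat.card (P : Subgroup G))
    (M : Ideal Cfsg.AlgInt) (hM : Cfsg.IsPModular p M) {g y : G} (hy : Cfsg.IsPPart p g y) :
    ∑ᶠ χ ∈ Cfsg.principalBlock M G, (χ : G → ℂ) g * conj ((χ : G → ℂ) x) =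
      if IsConj y x then (Nat.card (P : Subgroup G) : ℂ) else 0 := by
  haveI := hM.2.1
  obtain ⟨K, hKn, hK2, hKi⟩ := hK
  obtain ⟨k, hk⟩ := IsPGroup.iff_card.1 P.2
  obtain ⟨i, hi⟩ := IsPGroup.iff_orderOf.1 P.2 ⟨x, hxP⟩
  rw [Subgroup.orderOf_mk] at hi
  have hp : p.Prime := Fact.out
  split_ifs with hconj
  · obtain ⟨c, hc⟩ := isConj_iff.1 hconj
    have hpart : Cfsg.IsPPart p (c * g * c⁻¹) x := by
      rw [← hc]; exact BrauerMap.PrincipalSection.isPPart_conj hy c
    obtain ⟨v, hv, hcom, hpow, hv'⟩ := hpart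
    have hvC : v ∈ Subgroup.centralizer ({x} : Set G) :=
      Subgroup.mem_centralizer_singleton_iff.2 hcom.symm
    have hmem : (⟨v, hvC⟩ : Subgroup.centralizer ({x} : Set G)) ∈ K := by
      rw [← QuotientGroup.eq_one_iff, ← orderOf_eq_one_iff]
      refine Nat.eq_one_of_dvd_coprimes (Nat.Coprime.pow_left k
        ((hp.coprime_iff_not_dvd).2 hv')) (hk ▸ hKi ▸ ?_) ?_
      · rw [Subgroup.index_eq_card]; exact orderOf_dvd_natCard _
      · rw [← Subgroup.orderOf_mk v hvC]
        exact orderOf_map_dvd (QuotientGroup.mk' K) _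
    have hval : ∀ χ ∈ Cfsg.principalBlock M G, (χ : G → ℂ) g = (χ : G → ℂ) x := fun χ hχ => by
      rw [← char_conj_apply χ g c, ← hv]
      exact Cfsg.Agent.S0942.result p M hM x hpow v
        (Subgroup.mem_map.2 ⟨_, Lib.Cores.le_pPrimeCore_of_not_dvd hK2 hmem, rfl⟩) χ hχ
    rw [hk] at hKi
    have h := (Cfsg.Agent.S0947.result p M hM x ⟨i, hi⟩ hx1 1 (by simp [hp.ne_one])).2 (by
      obtain ⟨j, -, hj⟩ := (Nat.dvd_prime_pow hp).1 (hKi ▸ Subgroup.index_dvd_of_le
        (Lib.Cores.le_pPrimeCore_of_not_dvd hK2 :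
          K ≤ Cfsg.pPrimeCore p (Subgroup.centralizer ({x} : Set G))))
      exact ⟨j, hj⟩)
    rw [OneMemClass.coe_one, mul_one, ← K.card_mul_index, hKi,
      Nat.factorization_mul Nat.card_pos.ne' (pow_ne_zero _ hp.ne_zero), Finsupp.add_apply,
      Nat.factorization_eq_zero_of_not_dvd hK2, hp.factorization_pow,
      Finsupp.single_eq_same, zero_add] at h
    rw [← hk] at h
    have h' := congrArg (fun r : ℝ => (r : ℂ)) h
    simp only [Complex.ofReal_natCast] at h'
    rw [finsum_mem_eq_finite_toFinset_sum _ (Set.toFinite _), Complex.ofReal_sum] at h'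
    rw [← h', finsum_mem_eq_finite_toFinset_sum _ (Set.toFinite _)]
    refine Finset.sum_congr rfl fun χ hχ => ?_
    rw [hval χ ((Set.toFinite _).mem_toFinset.1 hχ), Complex.mul_conj']
    push_cast
    rfl
  · rw [← sum_block_eq_zero hM hy (isPPart_self hM.1 ⟨i, hi⟩) hconj isPBlock_principalBlock]
    refine finsum_congr fun χ => finsum_congr fun _ => ?_
    rw [apply_inv (isCharacter_irr χ)]

end Cfsg.Agent.Lib.NineTwoQ78.Section
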