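import Cfsg.Agent.Lib.NineTwoQ78.Local
import Cfsg.Agent.Lib.NineTwoQ78.Section
import Cfsg.Agent.Lib.NineTwoQ78.Lift
import Cfsg.Agent.Lib.NineTwoQ78.Bound
import Cfsg.Agent.Lib.H80.ClassMult
import Cfsg.Agent.Lib.FirstPower.Consequences

/-!
# A Sylow 3-subgroup of order nine with automiser a four group

The two generalized characters of norm three lifted from the Sylow subgroup give four rational
characters of the principal block; two of them have consecutive degrees prime to three.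
-/

set_option autoImplicit false
set_option linter.style.haveILetI false

namespace Cfsg.Agent.Lib.NineTwoQ78.Klein

open Cfsg.Agent.Lib Cfsg.Agent.Lib.Blocks Cfsg.Agent.Lib.Characters.Basic
open Cfsg.Agent.Lib.Induced
open scoped ComplexConjugate

universe u

variable {G : Type u} [Group G] [Finite G] {P : Sylow 3 G} {e₁ e₂ : G}

theorem comm9 (h9 : Nat.card (P : Subgroup G) = 9) :
    ∀ a ∈ (P : Subgroup G), ∀ b ∈ (P : Subgroup G), a * b = b * a := by
  haveI : Fact (Nat.Prime 3) := ⟨Nat.prime_three⟩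
  have hcm : IsMulCommutative (P : Subgroup G) :=
    IsPGroup.isMulCommutative_of_card_eq_prime_sq (p := 3) (by rw [h9]; rfl)
  exact fun a ha b hb =>
    congrArg Subtype.val (hcm.is_comm.comm (⟨a, ha⟩ : (P : Subgroup G)) ⟨b, hb⟩)

theorem fusion (h9 : Nat.card (P : Subgroup G) = 9) {a b : G} (ha : a ∈ (P : Subgroup G))
    (hb : b ∈ (P : Subgroup G)) (hab : IsConj a b) :
    ∃ c ∈ Subgroup.normalizer ((P : Subgroup G) : Set G), c * a * c⁻¹ = b := by
  haveI : Fact (Nat.Prime 3) := ⟨Nat.prime_three⟩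
  have hcm : IsMulCommutative (P : Subgroup G) :=
    IsPGroup.isMulCommutative_of_card_eq_prime_sq (p := 3) (by rw [h9]; rfl)
  obtain ⟨g, hg⟩ := isConj_iff.1 hab
  obtain ⟨c, hc, hcc⟩ := P.conj_eq_normalizer_conj_of_mem a g⁻¹ ha (by rw [inv_inv, hg]; exact hb)
  rw [inv_inv, hg] at hcc
  exact ⟨c⁻¹, inv_mem hc, by rw [hcc, inv_inv]⟩

theorem swap (h : Local.Four P e₁ e₂) (h9 : Nat.card (P : Subgroup G) = 9) :
    Local.Four P e₂ e₁ where
  mem₁ := h.mem₂
  mem₂ := h.mem₁
  cube₁ := h.cube₂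
  cube₂ := h.cube₁
  gen z hz := by
    obtain ⟨i, j, rfl⟩ := h.gen z hz
    exact ⟨j, i, comm9 h9 _ (pow_mem h.mem₁ _) _ (pow_mem h.mem₂ _)⟩
  indep i j hij := by
    rw [comm9 h9 _ (pow_mem h.mem₂ _) _ (pow_mem h.mem₁ _)] at hij
    exact (h.indep j i hij).symm
  act c hc := (h.act c hc).symm
  flip₁ := by obtain ⟨c, hc, h1, h2⟩ := h.flip₂; exact ⟨c, hc, h2, h1⟩
  flip₂ := by obtain ⟨c, hc, h1, h2⟩ := h.flip₁; exact ⟨c, hc, h2, h1⟩

theorem coords (h : Local.Four P e₁ e₂) (h9 : Nat.card (P : Subgroup G) = 9) {i j i' j' : Fin 3}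
    (he : e₁ ^ (i : ℕ) * e₂ ^ (j : ℕ) = e₁ ^ (i' : ℕ) * e₂ ^ (j' : ℕ)) : i = i' ∧ j = j' := by
  have key : ∀ {e : G}, e ^ 3 = 1 → ∀ a b : Fin 3, e ^ ((a - b : Fin 3) : ℕ) * e ^ (b : ℕ) =
      e ^ (a : ℕ) := fun {e} he a b => by
    rw [← pow_add, pow_eq_pow_mod _ he, show ((↑(a - b) + (b : ℕ)) % 3) = (a : ℕ) by
      revert a b; decide]
  have hc := comm9 (P := P) h9
  have h' := h.indep (i - i') (j - j') <| by
    apply mul_right_cancel (b := e₁ ^ (i' : ℕ) * e₂ ^ (j' : ℕ))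
    rw [one_mul, mul_assoc, ← mul_assoc (e₂ ^ _) (e₁ ^ _),
      hc _ (pow_mem h.mem₂ _) _ (pow_mem h.mem₁ (i' : ℕ)), mul_assoc, key h.cube₂, ← mul_assoc,
      key h.cube₁, he]
  exact ⟨sub_eq_zero.1 h'.1, sub_eq_zero.1 h'.2⟩

/-- The diagonal element is centralized in the normalizer only by the centralizer of `P`. -/
theorem cen (h : Local.Four P e₁ e₂) (h9 : Nat.card (P : Subgroup G) = 9) :
    ∀ c ∈ Subgroup.normalizer ((P : Subgroup G) : Set G), Commute c (e₁ * e₂) →
      c ∈ Subgroup.centralizer ((P : Subgroup G) : Set G) := by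
  intro c hc hcv
  have hv : c * e₁ * c⁻¹ * (c * e₂ * c⁻¹) = e₁ * e₂ := by
    rw [show c * e₁ * c⁻¹ * (c * e₂ * c⁻¹) = c * (e₁ * e₂) * c⁻¹ by group, hcv.eq]
    group
  have inv1 : e₁⁻¹ = e₁ ^ ((2 : Fin 3) : ℕ) := by
    show _ = e₁ ^ 2
    rw [inv_eq_iff_mul_eq_one, ← pow_succ', h.cube₁]
  have inv2 : e₂⁻¹ = e₂ ^ ((2 : Fin 3) : ℕ) := by
    show _ = e₂ ^ 2
    rw [inv_eq_iff_mul_eq_one, ← pow_succ', h.cube₂]
  have one1 : e₁ = e₁ ^ ((1 : Fin 3) : ℕ) := (pow_one _).symm
  have one2 : e₂ = e₂ ^ ((1 : Fin 3) : ℕ) := (pow_one _).symm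
  have hfix : c * e₁ * c⁻¹ = e₁ ∧ c * e₂ * c⁻¹ = e₂ := by
    rcases (h.act c hc).1 with a | a <;> rcases (h.act c hc).2 with b | b <;> rw [a, b] at hv
    · exact ⟨a, b⟩
    · rw [inv2] at hv
      nth_rw 1 [one1] at hv
      nth_rw 2 [one1, one2] at hv
      exact absurd (coords h h9 hv).2 (by decide)
    · rw [inv1] at hv
      nth_rw 1 [one2] at hv
      nth_rw 2 [one1, one2] at hv
      exact absurd (coords h h9 hv).1 (by decide)
    · rw [inv1, inv2] at hv
      nth_rw 2 [one1, one2] at hv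
      exact absurd (coords h h9 hv).1 (by decide)
  refine Subgroup.mem_centralizer_iff.2 fun z hz => ?_
  obtain ⟨i, j, rfl⟩ := h.gen z hz
  have hm := fun {x : G} (e : c * x * c⁻¹ = x) => (mul_inv_eq_iff_eq_mul.1 e : c * x = x * c)
  exact (Commute.mul_right (Commute.pow_right (hm hfix.1) _) (Commute.pow_right (hm hfix.2) _)).symm

/-- Every element of `P` is fused to one of four. -/
theorem classes (h : Local.Four P e₁ e₂) {z : G} (hz : z ∈ (P : Subgroup G)) :
    z = 1 ∨ IsConj z e₂ ∨ IsConj z e₁ ∨ IsConj z (e₁ * e₂) := by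
  obtain ⟨c₁, -, a1, b1⟩ := h.flip₁
  obtain ⟨c₂, -, a2, b2⟩ := h.flip₂
  have two : ∀ {e : G}, e ^ 3 = 1 → e ^ 2 = e⁻¹ := fun {e} he =>
    eq_inv_of_mul_eq_one_left (by rw [← pow_succ, he])
  obtain ⟨i, j, rfl⟩ := h.gen z hz
  fin_cases i <;> fin_cases j <;> simp only [pow_zero, pow_one, two h.cube₁, two h.cube₂, one_mul,
    mul_one]
  · exact Or.inl trivial
  · exact Or.inr (Or.inl (IsConj.refl _))
  · exact Or.inr (Or.inl (isConj_iff.2 ⟨c₂, by rw [← conj_inv, b2, inv_inv]⟩))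
  · exact Or.inr (Or.inr (Or.inl (IsConj.refl _)))
  · exact Or.inr (Or.inr (Or.inr (IsConj.refl _)))
  · refine Or.inr (Or.inr (Or.inr (isConj_iff.2 ⟨c₂, ?_⟩)))
    rw [show c₂ * (e₁ * e₂⁻¹) * c₂⁻¹ = c₂ * e₁ * c₂⁻¹ * (c₂ * e₂ * c₂⁻¹)⁻¹ by group, a2, b2,
      inv_inv]
  · exact Or.inr (Or.inr (Or.inl (isConj_iff.2 ⟨c₁, by rw [← conj_inv, a1, inv_inv]⟩)))
  · refine Or.inr (Or.inr (Or.inr (isConj_iff.2 ⟨c₁, ?_⟩)))
    rw [show c₁ * (e₁⁻¹ * e₂) * c₁⁻¹ = (c₁ * e₁ * c₁⁻¹)⁻¹ * (c₁ * e₂ * c₁⁻¹) by group, a1, b1,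
      inv_inv]
  · refine Or.inr (Or.inr (Or.inr (isConj_iff.2 ⟨c₂ * c₁, ?_⟩)))
    rw [show c₂ * c₁ * (e₁⁻¹ * e₂⁻¹) * (c₂ * c₁)⁻¹ =
      c₂ * ((c₁ * e₁ * c₁⁻¹)⁻¹ * (c₁ * e₂ * c₁⁻¹)⁻¹) * c₂⁻¹ by group, a1, b1, inv_inv,
      show c₂ * (e₁ * e₂⁻¹) * c₂⁻¹ = c₂ * e₁ * c₂⁻¹ * (c₂ * e₂ * c₂⁻¹)⁻¹ by group, a2, b2,
      inv_inv]

open scoped Classical in
/-- The character of `P` with kernel `⟨e₂⟩`. -/
noncomputable def theta (P : Sylow 3 G) (e : G) (z : (P : Subgroup G)) : ℂ :=
  if (z : G) ∈ Subgroup.zpowers e then 2 else -1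

theorem mem_zpowers_iff' (h : Local.Four P e₁ e₂) (h9 : Nat.card (P : Subgroup G) = 9)
    (i j : Fin 3) : e₁ ^ (i : ℕ) * e₂ ^ (j : ℕ) ∈ Subgroup.zpowers e₂ ↔ i = 0 := by
  classical
  refine ⟨fun hm => ?_, fun hi => ?_⟩
  · obtain ⟨n, hn, hn'⟩ : ∃ n : ℕ, n < 3 ∧ e₂ ^ n = e₁ ^ (i : ℕ) * e₂ ^ (j : ℕ) := by
      obtain ⟨n, hn⟩ := mem_zpowers_iff_mem_range_orderOf.1 hm |> Finset.mem_image.1
      exact ⟨n, lt_of_lt_of_le (Finset.mem_range.1 hn.1)
        (orderOf_le_of_pow_eq_one (by norm_num) h.cube₂), hn.2⟩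
    have := coords h h9 (i' := 0) (j' := ⟨n, hn⟩) (hn'.symm.trans (by simp))
    exact this.1
  · subst hi
    simpa using pow_mem (Subgroup.mem_zpowers e₂) (j : ℕ)

theorem theta_char (h : Local.Four P e₁ e₂) (h9 : Nat.card (P : Subgroup G) = 9) :
    Cfsg.IsCharacter (P : Subgroup G) (theta P e₂) := by
  classical
  haveI := Fintype.ofFinite (P : Subgroup G)
  choose i j hij using fun z : (P : Subgroup G) => h.gen z z.2
  set ω : ℂ := Complex.exp (2 * Real.pi * Complex.I / 3) with hω'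
  have hω : IsPrimitiveRoot ω 3 := by
    simpa using Complex.isPrimitiveRoot_exp 3 (by norm_num)
  have hsum : 1 + ω + ω ^ 2 = 0 := by
    simpa [Finset.sum_range_succ] using hω.geom_sum_eq_zero (by norm_num)
  have hc := comm9 (P := P) h9
  have hi1 : i 1 = 0 := (h.indep _ (j 1) (hij 1).symm).1
  have hlam : ∀ z w : (P : Subgroup G), ω ^ (i (z * w) : ℕ) =
      ω ^ (i z : ℕ) * ω ^ (i w : ℕ) := fun z w => by
    have e : i (z * w) = i z + i w := by
      refine (coords h h9 (j := j (z * w)) (j' := j z + j w) ?_).1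
      rw [← hij, Subgroup.coe_mul, hij z, hij w,
        show e₁ ^ (i z : ℕ) * e₂ ^ (j z : ℕ) * (e₁ ^ (i w : ℕ) * e₂ ^ (j w : ℕ)) =
          e₁ ^ (i z : ℕ) * (e₂ ^ (j z : ℕ) * e₁ ^ (i w : ℕ)) * e₂ ^ (j w : ℕ) by group,
        hc _ (pow_mem h.mem₂ _) _ (pow_mem h.mem₁ _)]
      have p1 : e₁ ^ ((i z + i w : Fin 3) : ℕ) = e₁ ^ (i z : ℕ) * e₁ ^ (i w : ℕ) := by
        rw [Fin.val_add, ← pow_eq_pow_mod _ h.cube₁, pow_add]
      have p2 : e₂ ^ ((j z + j w : Fin 3) : ℕ) = e₂ ^ (j z : ℕ) * e₂ ^ (j w : ℕ) := by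
        rw [Fin.val_add, ← pow_eq_pow_mod _ h.cube₂, pow_add]
      rw [p1, p2]
      group
    rw [e, Fin.val_add, ← pow_eq_pow_mod _ hω.pow_eq_one, pow_add]
  let lam : (P : Subgroup G) →* ℂ :=
    { toFun := fun z => ω ^ (i z : ℕ), map_one' := by simp [hi1], map_mul' := hlam }
  have heq : theta P e₂ = (fun z => lam z) + (fun z => (lam ^ 2) z) := by
    funext z
    show theta P e₂ z = ω ^ (i z : ℕ) + (ω ^ (i z : ℕ)) ^ 2
    have hiff : (z : G) ∈ Subgroup.zpowers e₂ ↔ i z = 0 := by rw [hij z, mem_zpowers_iff' h h9]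
    simp only [theta, hiff]
    generalize i z = k
    fin_cases k
    · norm_num
    · simp only [Fin.mk_one, show (1 : Fin 3) ≠ 0 by decide, if_false, Fin.val_one, pow_one]
      linear_combination -hsum
    · simp only [show ((⟨2, by norm_num⟩ : Fin 3) = 0) = False by simp, if_false]
      linear_combination -hsum - ω * hω.pow_eq_one
  rw [heq]
  exact isCharacter_add (Brauer.Elementary.isCharacter_hom lam)
    (Brauer.Elementary.isCharacter_hom (lam ^ 2))

theorem theta_fused (h : Local.Four P e₁ e₂) (h9 : Nat.card (P : Subgroup G) = 9) :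
    Lift.Fused P (theta P e₂) := by
  classical
  intro x y hxy
  obtain ⟨c, hc, hcy⟩ := fusion h9 x.2 y.2 hxy
  have key : ∀ d ∈ Subgroup.normalizer ((P : Subgroup G) : Set G), ∀ z ∈ Subgroup.zpowers e₂,
      d * z * d⁻¹ ∈ Subgroup.zpowers e₂ := by
    intro d hd z hz
    obtain ⟨n, rfl⟩ := Subgroup.mem_zpowers_iff.1 hz
    rw [← conj_zpow]
    refine zpow_mem ?_ n
    rcases (h.act d hd).2 with e | e <;> rw [e]
    · exact Subgroup.mem_zpowers e₂
    · exact inv_mem (Subgroup.mem_zpowers e₂)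
  unfold theta
  refine if_congr ⟨fun hx => hcy ▸ key c hc _ hx, fun hy => ?_⟩ rfl rfl
  have := key c⁻¹ (inv_mem hc) _ hy
  rw [← hcy] at this
  convert this using 1
  group

open scoped Classical in
/-- The indicator of a 3-section. -/
noncomputable def ind (P : Sylow 3 G) [Fact (Nat.Prime 3)] (x g : G) : ℂ :=
  if IsConj (g ^ Lift.pExp P) x then 1 else 0

open scoped Classical in
/-- The size of a 3-section. -/
noncomputable def cnt [Fintype G] (P : Sylow 3 G) [Fact (Nat.Prime 3)] (x : G) : ℕ :=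
  (Finset.univ.filter fun g : G => IsConj (g ^ Lift.pExp P) x).card

variable [Fintype G] [Fact (Nat.Prime 3)]

theorem sum_ind (x : G) : ∑ g : G, ind P x g = (cnt P x : ℂ) := by
  unfold ind cnt
  rw [Finset.sum_boole]
  norm_cast
  convert rfl

theorem ind_mul_self (x g : G) : ind P x g * ind P x g = ind P x g := by
  unfold ind; split_ifs <;> simp

theorem ind_mul (x y : G) (hxy : ¬ IsConj x y) (g : G) : ind P x g * ind P y g = 0 := by
  unfold ind
  split_ifs with h1 h2 <;> simp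
  exact hxy (h1.symm.trans h2)

theorem pow_self {x : G} (hx : x ∈ (P : Subgroup G)) : x ^ Lift.pExp P = x := by
  obtain ⟨k, hk⟩ := IsPGroup.iff_orderOf.1 P.2 ⟨x, hx⟩
  exact Lift.pow_eq_of_isPPart P
    (isPPart_self Nat.prime_three ⟨k, by rw [← hk, Subgroup.orderOf_mk]⟩)

theorem cnt_le {x : G} (hx : x ∈ (P : Subgroup G)) (hx3 : x ^ 3 = 1) (hx1 : x ≠ 1) :
    3 * cnt P x ≤ Fintype.card G := by
  classical
  set k := Lift.pExp P with hk
  set C := Finset.univ.filter fun g : G => g * x = x * g with hC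
  set F := Finset.univ.filter fun g : G => g ^ k = x with hF
  have ho : orderOf x = 3 := orderOf_eq_prime hx3 hx1
  have hFC : 3 * F.card ≤ C.card := by
    have : (F ×ˢ (Finset.univ : Finset (Fin 3))).card ≤ C.card := by
      refine Finset.card_le_card_of_injOn (fun a => a.1 * x ^ (a.2 : ℕ)) ?_ ?_
      · rintro ⟨g, i⟩ hg
        simp only [Finset.coe_product, Set.mem_prod, hF, Finset.coe_filter, Finset.mem_univ,
          true_and, Set.mem_setOf_eq] at hg
        simp only [hC, Finset.coe_filter, Finset.mem_univ, true_and, Set.mem_setOf_eq]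
        have : Commute g x := hg.1 ▸ Commute.self_pow g k
        exact (this.mul_left ((Commute.refl x).pow_left _)).eq
      · rintro ⟨g, i⟩ hg ⟨g', i'⟩ hg' he
        simp only [Finset.coe_product, Set.mem_prod, hF, Finset.coe_filter, Finset.mem_univ,
          true_and, Set.mem_setOf_eq] at hg hg'
        simp only at he
        have hp : ∀ {g : G}, g ^ k = x → ∀ i : ℕ, (g * x ^ i) ^ k = x * x ^ i := fun {g} hgk i => by
          have hcom : Commute g x := hgk ▸ Commute.self_pow g k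
          rw [(hcom.pow_right i).mul_pow, hgk, ← pow_mul, mul_comm, pow_mul, hk, pow_self hx]
        have h' := congrArg (· ^ k) he
        simp only [hp hg.1, hp hg'.1, mul_right_inj] at h'
        have hii : i = i' := by
          have := pow_inj_mod.1 h'
          rw [ho] at this
          omega
        subst hii
        rw [mul_right_cancel he]
    simpa [mul_comm] using this
  have hkey : cnt P x * C.card = Fintype.card G * F.card := by
    have hg : ∀ g : G, (Finset.univ.filter fun c : G => c * g ^ k * c⁻¹ = x).card =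
        if IsConj (g ^ k) x then C.card else 0 := by
      intro g
      split_ifs with hcon
      · obtain ⟨c, hc⟩ := isConj_iff.1 hcon
        refine Finset.card_nbij' (fun d => d * c⁻¹) (fun e => e * c) ?_ ?_ ?_ ?_
        · intro d hd
          simp only [Finset.coe_filter, Finset.mem_univ, true_and, Set.mem_setOf_eq, hC] at hd ⊢
          calc d * c⁻¹ * x = d * c⁻¹ * (c * g ^ k * c⁻¹) := by rw [hc]
            _ = d * g ^ k * d⁻¹ * (d * c⁻¹) := by group
            _ = _ := by rw [hd]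
        · intro e he
          simp only [Finset.coe_filter, Finset.mem_univ, true_and, Set.mem_setOf_eq, hC] at he ⊢
          calc e * c * g ^ k * (e * c)⁻¹ = e * (c * g ^ k * c⁻¹) * e⁻¹ := by group
            _ = _ := by rw [hc, he]; group
        · intro d _; simp
        · intro e _; simp
      · rw [Finset.card_eq_zero, Finset.filter_eq_empty_iff]
        exact fun c _ hc => hcon (isConj_iff.2 ⟨c, hc⟩)
    have hc : ∀ c : G, (Finset.univ.filter fun g : G => c * g ^ k * c⁻¹ = x).card = F.card := by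
      intro c
      refine Finset.card_nbij' (fun g => c * g * c⁻¹) (fun g => c⁻¹ * g * c) ?_ ?_ ?_ ?_
      · intro g hg
        simp only [Finset.coe_filter, Finset.mem_univ, true_and, Set.mem_setOf_eq, hF] at hg ⊢
        rw [conj_pow, hg]
      · intro g hg
        simp only [Finset.coe_filter, Finset.mem_univ, true_and, Set.mem_setOf_eq, hF] at hg ⊢
        rw [show c⁻¹ * g * c = c⁻¹ * g * c⁻¹⁻¹ by rw [inv_inv], conj_pow, hg]
        group
      · intro g _; group
      · intro g _; group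
    calc cnt P x * C.card
        = ∑ g : G, if IsConj (g ^ k) x then C.card else 0 := by
          rw [cnt, ← Finset.sum_filter, Finset.sum_const, smul_eq_mul]
      _ = ∑ g : G, (Finset.univ.filter fun c : G => c * g ^ k * c⁻¹ = x).card :=
          Finset.sum_congr rfl fun g _ => (hg g).symm
      _ = ∑ c : G, (Finset.univ.filter fun g : G => c * g ^ k * c⁻¹ = x).card := by
          simp only [Finset.card_filter]; rw [Finset.sum_comm]
      _ = _ := by rw [Finset.sum_congr rfl fun c _ => hc c, Finset.sum_const, Finset.card_univ,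
            smul_eq_mul]
  have hCpos : 0 < C.card := Finset.card_pos.2 ⟨1, by simp [hC]⟩
  refine Nat.le_of_mul_le_mul_right ?_ hCpos
  rw [mul_assoc, hkey, mul_left_comm]
  exact Nat.mul_le_mul_left _ hFC

open scoped Classical in
/-- The value at `x` of a character in the principal block, and zero outside. -/
noncomputable def val (M : Ideal Cfsg.AlgInt) (x : G) (χ : Cfsg.IrrCharacter G) : ℂ :=
  if χ ∈ Cfsg.principalBlock M G then (χ : G → ℂ) x else 0

variable [Fintype (Cfsg.IrrCharacter G)]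

open scoped Classical in
theorem column' (h : Local.Four P e₁ e₂) (h9 : Nat.card (P : Subgroup G) = 9)
    {M : Ideal Cfsg.AlgInt} (hM : Cfsg.IsPModular 3 M) (g : G) :
    ∑ χ : Cfsg.IrrCharacter G, val M (e₁ * e₂) χ * conj ((χ : G → ℂ) g) =
      9 * ind P (e₁ * e₂) g := by
  have hv : e₁ * e₂ ∈ (P : Subgroup G) := mul_mem h.mem₁ h.mem₂
  have hv1 : e₁ * e₂ ≠ 1 := fun e => by
    have := h.indep 1 1 (by simpa using e)
    exact absurd this.1 (by decide)
  obtain ⟨y, hy⟩ := Blocks.exists_isPPart (G := G) Nat.prime_three g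
  have h' := congrArg conj (Section.column P hv1 hv
    (Section.complement P (comm9 h9) hv (cen h h9)) M hM hy)
  rw [finsum_mem_eq_finite_toFinset_sum _ (Set.toFinite _), map_sum] at h'
  rw [ind, Lift.pow_eq_of_isPPart P hy, mul_ite, mul_one, mul_zero]
  rw [apply_ite conj, map_natCast, map_zero, h9, Nat.cast_ofNat] at h'
  rw [← h', ← Finset.sum_subset (Finset.subset_univ _) (fun χ _ hχ => by
    rw [val, if_neg (fun hm => hχ ((Set.toFinite _).mem_toFinset.2 hm)), zero_mul])]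
  refine Finset.sum_congr rfl fun χ hχ => ?_
  rw [val, if_pos ((Set.toFinite _).mem_toFinset.1 hχ), map_mul, Complex.conj_conj, mul_comm]

theorem sum_irr (χ : Cfsg.IrrCharacter G) :
    ∑ g : G, conj ((χ : G → ℂ) g) =
      if χ = oneChar G then (Fintype.card G : ℂ) else 0 := by
  classical
  split_ifs with hχ
  · subst hχ
    simp [oneChar_apply]
  · have h := classInner_irr_of_ne (Ne.symm hχ)
    rw [Cfsg.classInner] at h
    simp only [oneChar_apply, one_mul, mul_eq_zero, inv_eq_zero, Nat.cast_eq_zero] at h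
    exact h.resolve_left Nat.card_pos.ne'

theorem nine_cnt (h : Local.Four P e₁ e₂) (h9 : Nat.card (P : Subgroup G) = 9)
    {M : Ideal Cfsg.AlgInt} (hM : Cfsg.IsPModular 3 M) :
    9 * cnt P (e₁ * e₂) = Fintype.card G := by
  classical
  haveI := hM.2.1
  have h' : (∑ g : G, 9 * ind P (e₁ * e₂) g) = (Fintype.card G : ℂ) := by
    rw [Finset.sum_congr rfl fun g _ => (column' h h9 hM g).symm, Finset.sum_comm]
    simp only [← Finset.mul_sum, sum_irr, mul_ite, mul_zero, Finset.sum_ite_eq', Finset.mem_univ,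
      if_true]
    rw [val, if_pos oneChar_mem_principalBlock, oneChar_apply, one_mul]
  rw [← Finset.mul_sum, sum_ind] at h'
  exact_mod_cast h'

/-- The lifted character. -/
theorem lift_data (h : Local.Four P e₁ e₂) (h9 : Nat.card (P : Subgroup G) = 9)
    {M : Ideal Cfsg.AlgInt} (hM : Cfsg.IsPModular 3 M) :
    ∃ F : G → ℂ, Cfsg.IsGeneralizedCharacter G F ∧
      (∀ g, F g = 2 - 3 * (ind P e₁ g + ind P (e₁ * e₂) g)) ∧
      (∀ k : ℕ, k.Coprime (Nat.card G) → ∀ g, F (g ^ k) = F g) ∧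
      F 1 = 2 ∧ Cfsg.classInner F (oneChar G : G → ℂ) = 1 ∧ Cfsg.classInner F F = 3 ∧
      9 * cnt P e₁ = 2 * Fintype.card G ∧ ¬ IsConj e₁ (e₁ * e₂) := by
  classical
  have hfu := theta_fused h h9
  set F := Lift.lift P (theta P e₂) with hFdef
  have hgen : Cfsg.IsGeneralizedCharacter G F := Lift.lift_isGen hfu (theta_char h h9)
  have hnc : ∀ i j : Fin 3, i ≠ 0 → ¬ IsConj (e₁ ^ (i : ℕ) * e₂ ^ (j : ℕ)) e₂ ∧
      ¬ IsConj (e₁ ^ (i : ℕ) * e₂ ^ (j : ℕ)) 1 := by
    intro i j hi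
    refine ⟨fun hc => hi ?_, fun hc => hi ?_⟩
    · have h' := hfu ⟨_, mul_mem (pow_mem h.mem₁ _) (pow_mem h.mem₂ _)⟩ ⟨e₂, h.mem₂⟩ hc
      by_contra hne
      rw [theta, theta, if_neg (fun hm => hne ((mem_zpowers_iff' h h9 i j).1 hm)),
        if_pos (Subgroup.mem_zpowers e₂)] at h'
      norm_num at h'
    · exact (h.indep i j (isConj_one_left.1 hc)).1
  have hv0 : e₁ * e₂ = e₁ ^ ((1 : Fin 3) : ℕ) * e₂ ^ ((1 : Fin 3) : ℕ) := by simp
  have h10 : e₁ = e₁ ^ ((1 : Fin 3) : ℕ) * e₂ ^ ((0 : Fin 3) : ℕ) := by simp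
  have hne_v : ¬ IsConj e₁ (e₁ * e₂) := by
    intro hc
    obtain ⟨c, hcN, he⟩ := fusion h9 h.mem₁ (mul_mem h.mem₁ h.mem₂) hc
    rcases (h.act c hcN).1 with e | e <;> rw [e] at he
    · have := coords h h9 (h10.symm.trans (he.trans hv0))
      exact absurd this.2 (by decide)
    · have e' : e₁⁻¹ = e₁ ^ ((2 : Fin 3) : ℕ) * e₂ ^ ((0 : Fin 3) : ℕ) := by
        simp only [Fin.val_zero, pow_zero, mul_one]
        show _ = e₁ ^ 2
        rw [inv_eq_iff_mul_eq_one, ← pow_succ', h.cube₁]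
      have := coords h h9 (e'.symm.trans (he.trans hv0))
      exact absurd this.1 (by decide)
  have hval : ∀ g, F g = 2 - 3 * (ind P e₁ g + ind P (e₁ * e₂) g) := by
    intro g
    obtain ⟨c, hc⟩ := Lift.exists_conj_pow P g
    have hconj : IsConj (g ^ Lift.pExp P) (c * g ^ Lift.pExp P * c⁻¹) := isConj_iff.2 ⟨c, rfl⟩
    rcases classes h hc with e | e | e | e
    · rw [e] at hconj
      rw [hFdef, Lift.lift_eq hfu (h := 1) (by simpa using hconj), theta,
        if_pos (show ((1 : (P : Subgroup G)) : G) ∈ Subgroup.zpowers e₂ from one_mem _), ind, ind,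
        if_neg, if_neg, add_zero, mul_zero, sub_zero]
      · exact fun hv => (hnc 1 1 (by decide)).2 (hv0 ▸ (hv.symm.trans hconj))
      · exact fun hv => (hnc 1 0 (by decide)).2 (h10 ▸ (hv.symm.trans hconj))
    · have hc2 := hconj.trans e
      rw [hFdef, Lift.lift_eq hfu (h := ⟨e₂, h.mem₂⟩) hc2, theta, if_pos (Subgroup.mem_zpowers e₂),
        ind, ind, if_neg, if_neg, add_zero, mul_zero, sub_zero]
      · exact fun hv => (hnc 1 1 (by decide)).1 (hv0 ▸ (hv.symm.trans hc2))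
      · exact fun hv => (hnc 1 0 (by decide)).1 (h10 ▸ (hv.symm.trans hc2))
    · have hc2 := hconj.trans e
      rw [hFdef, Lift.lift_eq hfu (h := ⟨e₁, h.mem₁⟩) hc2, theta, if_neg, ind, ind, if_pos hc2, if_neg]
      · norm_num
      · exact fun hv => hne_v (hc2.symm.trans hv)
      · intro hm
        exact absurd ((mem_zpowers_iff' h h9 1 0).1 (h10 ▸ hm)) (by decide)
    · have hc2 := hconj.trans e
      rw [hFdef, Lift.lift_eq hfu (h := ⟨_, mul_mem h.mem₁ h.mem₂⟩) hc2, theta, if_neg, ind, ind,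
        if_neg, if_pos hc2]
      · norm_num
      · exact fun hv => hne_v (hv.symm.trans hc2)
      · intro hm
        exact absurd ((mem_zpowers_iff' h h9 1 1).1 (hv0 ▸ hm)) (by decide)
  have hpow : ∀ k : ℕ, k.Coprime (Nat.card G) → ∀ g, F (g ^ k) = F g := by
    intro k hk g
    obtain ⟨c, hc⟩ := Lift.exists_conj_pow P g
    rw [hFdef, Lift.lift_eq hfu (h := ⟨_, hc⟩) (isConj_iff.2 ⟨c, rfl⟩),
      Lift.lift_eq hfu (g := g ^ k) (h := ⟨_, hc⟩ ^ k) (by
        rw [← pow_mul, mul_comm, pow_mul]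
        exact isConj_iff.2 ⟨c, by rw [SubmonoidClass.coe_pow, ← conj_pow]⟩)]
    unfold theta
    refine if_congr ⟨fun hm => ?_, fun hm => by simpa using pow_mem hm k⟩ rfl rfl
    obtain ⟨m, hm'⟩ := exists_pow_eq_self_of_coprime
      (hk.coprime_dvd_right (orderOf_dvd_natCard (c * g ^ Lift.pExp P * c⁻¹)))
    simp only [SubmonoidClass.coe_pow] at hm
    simpa only [hm'] using pow_mem hm m
  have hF1 : F 1 = 2 := by
    rw [hFdef, Lift.lift_eq hfu (h := 1) (by simp), theta,
        if_pos (show ((1 : (P : Subgroup G)) : G) ∈ Subgroup.zpowers e₂ from one_mem _)]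
  have hnine := nine_cnt h h9 hM
  -- the multiplicity of the trivial character
  have hsum : ∑ g, F g = 2 * (Fintype.card G : ℂ) - 3 * (cnt P e₁ + cnt P (e₁ * e₂)) := by
    simp only [hval, Finset.sum_sub_distrib, ← Finset.mul_sum, Finset.sum_add_distrib, sum_ind,
      Finset.sum_const, Finset.card_univ, nsmul_eq_mul]
    ring
  obtain ⟨m, hm⟩ := Generalized.exists_classInner_int hgen (Generalized.of_irr (oneChar G))
  have hcard0 : (Fintype.card G : ℂ) ≠ 0 := Nat.cast_ne_zero.2 Fintype.card_ne_zero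
  have hin : Cfsg.classInner F (oneChar G : G → ℂ) = (Fintype.card G : ℂ)⁻¹ * ∑ g, F g := by
    simp [Cfsg.classInner, Nat.card_eq_fintype_card, oneChar_apply]
  have hmi : m * (Fintype.card G : ℤ) =
      2 * (Fintype.card G : ℤ) - 3 * ((cnt P e₁ : ℤ) + cnt P (e₁ * e₂)) := by
    have : (m : ℂ) * (Fintype.card G : ℂ) = ∑ g, F g := by
      rw [← hm, hin, mul_comm, ← mul_assoc, mul_inv_cancel₀ hcard0, one_mul]
    rw [hsum] at this
    exact_mod_cast this
  have hle := cnt_le (P := P) h.mem₁ h.cube₁ (fun e => by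
    have := h.indep 1 0 (by simpa using e)
    exact absurd this.1 (by decide))
  have hG0 : 0 < Fintype.card G := Fintype.card_pos
  obtain rfl : m = 1 := by
    rcases lt_trichotomy m 1 with hlt | heq | hgt
    · nlinarith
    · exact heq
    · nlinarith
  have hnine1 : 9 * cnt P e₁ = 2 * Fintype.card G := by omega
  refine ⟨F, hgen, hval, hpow, hF1, by rw [hm, Int.cast_one], ?_, hnine1, hne_v⟩
  have hsq : ∀ g, F g * conj (F g) = 2 + F g := by
    intro g
    rw [hval, ind, ind]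
    split_ifs with a b b
    · exact absurd (a.symm.trans b) hne_v
    all_goals norm_num [map_ofNat]
  rw [Cfsg.classInner, Finset.sum_congr rfl fun g _ => hsq g, Finset.sum_add_distrib, mul_add,
    Finset.sum_const, Finset.card_univ, nsmul_eq_mul, Nat.card_eq_fintype_card, ← hin, hm,
    ← mul_assoc, inv_mul_cancel₀ hcard0]
  norm_num

/-- The constituents of a lifted character. -/
theorem split (h : Local.Four P e₁ e₂) (h9 : Nat.card (P : Subgroup G) = 9)
    {M : Ideal Cfsg.AlgInt} (hM : Cfsg.IsPModular 3 M) {F : G → ℂ}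
    (hgen : Cfsg.IsGeneralizedCharacter G F)
    (hFv : ∀ g, IsConj (g ^ Lift.pExp P) (e₁ * e₂) → F g = -1)
    (hpow : ∀ k : ℕ, k.Coprime (Nat.card G) → ∀ g, F (g ^ k) = F g)
    (h1 : F 1 = 2) (hone : Cfsg.classInner F (oneChar G : G → ℂ) = 1)
    (h3 : Cfsg.classInner F F = 3) :
    ∃ (X X' : Cfsg.IrrCharacter G) (s s' w w' : ℤ),
      X ≠ oneChar G ∧ X' ≠ oneChar G ∧ X ≠ X' ∧ (s = 1 ∨ s = -1) ∧ (s' = 1 ∨ s' = -1) ∧
      Cfsg.classInner F (X : G → ℂ) = s ∧ Cfsg.classInner F (X' : G → ℂ) = s' ∧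
      (∀ χ, χ ≠ oneChar G → χ ≠ X → χ ≠ X' → Cfsg.classInner F (χ : G → ℂ) = 0) ∧
      s * Cfsg.charDegree (X : G → ℂ) + s' * Cfsg.charDegree (X' : G → ℂ) = 1 ∧
      Bound.Rat' X ∧ Bound.Rat' X' ∧
      val M (e₁ * e₂) X = w ∧ val M (e₁ * e₂) X' = w' ∧ s * w + s' * w' = -2 := by
  classical
  haveI := hM.2.1
  obtain ⟨c, hc, hFc, hnorm⟩ := Generalized.exists_coeff hgen
  have hc1 : c (oneChar G) = 1 := by exact_mod_cast (hc (oneChar G)).symm.trans hone
  set T := (Finset.univ.erase (oneChar G)).filter fun χ => c χ ≠ 0 with hT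
  have h3' : ∑ χ, c χ ^ 2 = 3 := by exact_mod_cast hnorm.symm.trans h3
  rw [← Finset.add_sum_erase _ _ (Finset.mem_univ (oneChar G)), hc1] at h3'
  have hT2 : ∑ χ ∈ T, c χ ^ 2 = 2 := by
    have hsub : ∑ χ ∈ T, c χ ^ 2 = ∑ χ ∈ Finset.univ.erase (oneChar G), c χ ^ 2 := by
      rw [hT]
      refine Finset.sum_subset (Finset.filter_subset _ _) fun χ hχ hχ' => ?_
      rw [show c χ = 0 by simpa [hχ] using hχ']
      ring
    linarith
  have hunit : ∀ χ ∈ T, c χ = 1 ∨ c χ = -1 := by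
    intro χ hχ
    have hle := Finset.single_le_sum (fun χ _ => sq_nonneg (c χ)) hχ
    rw [hT2] at hle
    have hne := (Finset.mem_filter.1 hχ).2
    have : -1 ≤ c χ ∧ c χ ≤ 1 := by constructor <;> nlinarith
    omega
  have hTc : T.card = 2 := by
    have : ∑ χ ∈ T, c χ ^ 2 = ∑ χ ∈ T, (1 : ℤ) :=
      Finset.sum_congr rfl fun χ hχ => by rcases hunit χ hχ with e | e <;> rw [e] <;> norm_num
    rw [this, Finset.sum_const, nsmul_one] at hT2
    exact_mod_cast hT2
  obtain ⟨X, X', hne, hTX⟩ := Finset.card_eq_two.1 hTc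
  have hX : X ∈ T := by simp [hTX]
  have hX' : X' ∈ T := by simp [hTX]
  have hzero : ∀ χ, χ ≠ oneChar G → χ ≠ X → χ ≠ X' → c χ = 0 := by
    intro χ a b b'
    by_contra hne0
    have : χ ∈ T := Finset.mem_filter.2 ⟨Finset.mem_erase.2 ⟨a, Finset.mem_univ _⟩, hne0⟩
    rw [hTX] at this
    simp [b, b'] at this
  have hXo : X ≠ oneChar G := (Finset.mem_erase.1 (Finset.mem_filter.1 hX).1).1
  have hX'o : X' ≠ oneChar G := (Finset.mem_erase.1 (Finset.mem_filter.1 hX').1).1
  have hexp : ∀ f : Cfsg.IrrCharacter G → ℂ, ∑ χ, (c χ : ℂ) * f χ =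
      f (oneChar G) + c X * f X + c X' * f X' := by
    intro f
    rw [← Finset.add_sum_erase _ _ (Finset.mem_univ (oneChar G)), hc1, Int.cast_one, one_mul,
      ← Finset.sum_subset (Finset.filter_subset (fun χ => c χ ≠ 0) _) (fun χ hχ hχ' => by
        have : c χ = 0 := by
          by_contra hne0
          exact hχ' (Finset.mem_filter.2 ⟨hχ, hne0⟩)
        rw [this]; simp), ← hT, hTX, Finset.sum_pair hne, add_assoc]
  have hdeg : c X * Cfsg.charDegree (X : G → ℂ) + c X' * Cfsg.charDegree (X' : G → ℂ) = 1 := by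
    have := congrFun hFc 1
    simp only [Finset.sum_apply, Pi.smul_apply, smul_eq_mul, h1] at this
    rw [hexp fun χ => (χ : G → ℂ) 1, oneChar_apply, DegreeBounds.Basic.charDegree_irr,
      DegreeBounds.Basic.charDegree_irr] at this
    have : ((c X * Cfsg.charDegree (X : G → ℂ) + c X' * Cfsg.charDegree (X' : G → ℂ) : ℤ) : ℂ) =
        ((1 : ℤ) : ℂ) := by
      push_cast
      linear_combination -this
    exact_mod_cast this
  -- rationality
  have hfix : ∀ {k : ℕ} (hk : k.Coprime (Nat.card G)) (χ : Cfsg.IrrCharacter G),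
      c (PrincipalCore.Rational.powIrr hk χ) = c χ := by
    intro k hk χ
    have : Cfsg.classInner F (PrincipalCore.Rational.powIrr hk χ : G → ℂ) =
        Cfsg.classInner F (χ : G → ℂ) := by
      unfold Cfsg.classInner
      congr 1
      refine Fintype.sum_equiv (powCoprime hk.symm) _ _ fun g => ?_
      simp only [powCoprime_apply, PrincipalCore.Rational.powIrr_apply, hpow k hk g]
    rw [hc, hc] at this
    exact_mod_cast this
  have hrat : ∀ χ ∈ T, Bound.Rat' χ := by
    intro χ hχ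
    refine Bound.rat_of_fixed χ fun k hk g => ?_
    have hmem : PrincipalCore.Rational.powIrr hk χ ∈ T := by
      obtain ⟨hχ1, hχ2⟩ := Finset.mem_filter.1 hχ
      refine Finset.mem_filter.2 ⟨Finset.mem_erase.2 ⟨fun e => (Finset.mem_erase.1 hχ1).1 <|
        PrincipalCore.Rational.powIrr_injective hk (e.trans (Subtype.ext (funext fun g => by
          rw [PrincipalCore.Rational.powIrr_apply, oneChar_apply, oneChar_apply])).symm),
        Finset.mem_univ _⟩, by rw [hfix]; exact hχ2⟩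
    have hd : Cfsg.charDegree (PrincipalCore.Rational.powIrr hk χ : G → ℂ) =
        Cfsg.charDegree (χ : G → ℂ) := by
      simp [Cfsg.charDegree, PrincipalCore.Rational.powIrr_apply]
    have hsame : PrincipalCore.Rational.powIrr hk χ = χ := by
      have hdne : Cfsg.charDegree (X : G → ℂ) ≠ Cfsg.charDegree (X' : G → ℂ) := by
        intro e
        rw [e] at hdeg
        rcases hunit X hX with a | a <;> rcases hunit X' hX' with b | b <;> rw [a, b] at hdeg <;>
          omega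
      rw [hTX, Finset.mem_insert, Finset.mem_singleton] at hχ hmem
      rcases hχ with rfl | rfl <;> rcases hmem with e | e
      · exact e
      · exact absurd (by rw [← hd, e]) hdne
      · exact absurd (by rw [← hd, e]) hdne.symm
      · exact e
    exact congrFun (congrArg Subtype.val hsame) g
  have hw : ∀ χ ∈ T, ∃ w : ℤ, val M (e₁ * e₂) χ = w := by
    intro χ hχ
    unfold val
    split_ifs
    · exact hrat χ hχ _
    · exact ⟨0, by simp⟩
  obtain ⟨w, hw1⟩ := hw X hX
  obtain ⟨w', hw1'⟩ := hw X' hX'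
  -- the pairing with the column at `e₁ e₂`
  have hcol : ∑ χ, (c χ : ℂ) * val M (e₁ * e₂) χ = -1 := by
    simp only [← hc, Cfsg.classInner, mul_assoc, Finset.sum_mul, ← Finset.mul_sum]
    rw [Finset.sum_comm]
    have : ∀ g, ∑ χ : Cfsg.IrrCharacter G, F g * (conj ((χ : G → ℂ) g) * val M (e₁ * e₂) χ) =
        -9 * ind P (e₁ * e₂) g := by
      intro g
      rw [← Finset.mul_sum, Finset.sum_congr rfl fun χ _ => mul_comm _ _, column' h h9 hM g, ind]
      split_ifs with hg
      · rw [hFv g hg]; ring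
      · ring
    rw [Finset.sum_congr rfl fun g _ => this g, ← Finset.mul_sum, sum_ind,
      Nat.card_eq_fintype_card]
    have h9c : (9 : ℂ) * cnt P (e₁ * e₂) = Fintype.card G := by exact_mod_cast nine_cnt h h9 hM
    field_simp [Fintype.card_ne_zero]
    linear_combination -h9c
  rw [hexp, hw1, hw1', val, if_pos oneChar_mem_principalBlock, oneChar_apply] at hcol
  refine ⟨X, X', c X, c X', w, w', hXo, hX'o, hne, hunit X hX, hunit X' hX', hc X, hc X',
    fun χ a b b' => by rw [hc, hzero χ a b b', Int.cast_zero], hdeg, hrat X hX, hrat X' hX',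
    hw1, hw1', ?_⟩
  have : ((c X * w + c X' * w' : ℤ) : ℂ) = ((-2 : ℤ) : ℂ) := by
    push_cast
    linear_combination hcol
  exact_mod_cast this

set_option maxHeartbeats 1000000 in
theorem out [IsSimpleGroup G] (hG : ¬ IsMulCommutative G) {q a b : ℕ} (hq : q.Prime) (hq2 : q ≠ 2)
    (hq3 : q ≠ 3) (hcard : Nat.card G = 9 * 2 ^ a * q ^ b) (h : Local.Four P e₁ e₂)
    (h9 : Nat.card (P : Subgroup G) = 9) : One.Out G := by
  classical
  obtain ⟨M, hM⟩ := exists_isPModular 3 Nat.prime_three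
  haveI := hM.2.1
  have hvv : e₂ * e₁ = e₁ * e₂ := comm9 h9 _ h.mem₂ _ h.mem₁
  obtain ⟨F₁, hg₁, hv₁, hp₁, h11, ho₁, hn₁, hc₁, hne₁⟩ := lift_data h h9 hM
  obtain ⟨F₂, hg₂, hv₂, hp₂, h12, ho₂, hn₂, hc₂, hne₂⟩ := lift_data (swap h h9) h9 hM
  rw [hvv] at hne₂
  simp only [hvv] at hv₂
  have h12ne : ¬ IsConj e₁ e₂ := by
    intro hc
    obtain ⟨c, hcN, he⟩ := fusion h9 h.mem₁ h.mem₂ hc
    have i1 : e₁ ∈ Subgroup.zpowers e₂ := by
      rcases (h.act c hcN).1 with e | e <;> rw [e] at he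
      · rw [he]; exact Subgroup.mem_zpowers e₂
      · rw [← inv_inv e₁, he]; exact inv_mem (Subgroup.mem_zpowers e₂)
    exact absurd ((mem_zpowers_iff' h h9 1 0).1 (by simpa using i1)) (by decide)
  have hFv : ∀ g, IsConj (g ^ Lift.pExp P) (e₁ * e₂) → F₁ g = -1 ∧ F₂ g = -1 := by
    intro g hg
    constructor
    · rw [hv₁, ind, ind, if_neg (fun e => hne₁ (e.symm.trans hg)), if_pos hg]; norm_num
    · rw [hv₂, ind, ind, if_neg (fun e => hne₂ (e.symm.trans hg)), if_pos hg]; norm_num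
  obtain ⟨X, X', s, s', w, w', hX, hX', hXX, hs, hs', cX, cX', c0, hd, rX, rX', vX, vX', hw⟩ :=
    split h h9 hM hg₁ (fun g hg => (hFv g hg).1) hp₁ h11 ho₁ hn₁
  obtain ⟨Y, Y', t, t', z, z', hY, hY', hYY, ht, ht', dY, dY', d0, he, rY, rY', vY, vY', hz⟩ :=
    split h h9 hM hg₂ (fun g hg => (hFv g hg).2) hp₂ h12 ho₂ hn₂
  -- the inner product is one
  have hin : Cfsg.classInner F₁ F₂ = 1 := by
    have hmul : ∀ g, F₁ g * conj (F₂ g) =
        4 - 6 * ind P e₁ g - 6 * ind P e₂ g - 3 * ind P (e₁ * e₂) g := by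
      intro g
      have hr : ∀ x, conj (ind P x g) = ind P x g := fun x => by unfold ind; split_ifs <;> simp
      rw [hv₁, hv₂, map_sub, map_mul, map_add, hr, hr, map_ofNat, map_ofNat]
      have a := ind_mul (P := P) e₁ e₂ h12ne g
      have b := ind_mul (P := P) e₁ (e₁ * e₂) hne₁ g
      have c := ind_mul (P := P) e₂ (e₁ * e₂) hne₂ g
      have d := ind_mul_self (P := P) (e₁ * e₂) g
      linear_combination 9 * a + 9 * b + 9 * c + 9 * d
    rw [Cfsg.classInner, Finset.sum_congr rfl fun g _ => hmul g]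
    simp only [Finset.sum_sub_distrib, ← Finset.mul_sum, sum_ind, Finset.sum_const,
      Finset.card_univ, nsmul_eq_mul, Nat.card_eq_fintype_card]
    have a : (9 : ℂ) * cnt P e₁ = 2 * Fintype.card G := by exact_mod_cast hc₁
    have b : (9 : ℂ) * cnt P e₂ = 2 * Fintype.card G := by exact_mod_cast hc₂
    have c : (9 : ℂ) * cnt P (e₁ * e₂) = Fintype.card G := by exact_mod_cast nine_cnt h h9 hM
    field_simp [Fintype.card_ne_zero]
    linear_combination (-2 / 3 : ℂ) * a - (2 / 3 : ℂ) * b - (1 / 3 : ℂ) * c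
  rw [Generalized.classInner_eq_sum hg₁, ← Finset.add_sum_erase _ _ (Finset.mem_univ (oneChar G)),
    ho₁, ho₂, map_one, one_mul, add_eq_left, ← Finset.sum_subset
      (s₁ := {X, X'}) (by intro χ hχ; simp at hχ; rcases hχ with rfl | rfl <;> simp [hX, hX'])
      (fun χ hχ hχ' => by
        simp at hχ hχ'
        rw [c0 χ hχ hχ'.1 hχ'.2, zero_mul]),
    Finset.sum_pair hXX, cX, cX'] at hin
  -- the supports are disjoint
  have hdis : (X ≠ Y ∧ X ≠ Y') ∧ (X' ≠ Y ∧ X' ≠ Y') := by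
    have dX := DegreeBounds.Basic.charDegree_pos X
    have dX' := DegreeBounds.Basic.charDegree_pos X'
    by_contra hcon
    have conv : ∀ m n : ℤ, Cfsg.classInner F₂ (X : G → ℂ) = m →
        Cfsg.classInner F₂ (X' : G → ℂ) = n → s * m + s' * n = 0 := by
      intro m n hm hn
      rw [hm, hn, map_intCast, map_intCast] at hin
      exact_mod_cast hin
    by_cases x1 : X = Y <;> by_cases x2 : X = Y' <;> by_cases x3 : X' = Y <;>
      by_cases x4 : X' = Y'
    all_goals first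
      | (exact hcon ⟨⟨x1, x2⟩, x3, x4⟩)
      | (exact hYY (x1.symm.trans x2))
      | (exact hYY (x3.symm.trans x4))
      | (exact hXX (x1.trans x3.symm))
      | (exact hXX (x2.trans x4.symm))
      | skip
    · -- `X = Y`, `X' = Y'`
      subst x1; subst x4
      have := conv t t' dY dY'
      rcases hs with rfl | rfl <;> rcases hs' with rfl | rfl <;> rcases ht with rfl | rfl <;>
        rcases ht' with rfl | rfl <;> omega
    · subst x1
      have := conv t 0 dY (by simpa using d0 X' hX' x3 x4)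
      rcases hs with rfl | rfl <;> rcases ht with rfl | rfl <;> omega
    · subst x2; subst x3
      have := conv t' t dY' dY
      rcases hs with rfl | rfl <;> rcases hs' with rfl | rfl <;> rcases ht with rfl | rfl <;>
        rcases ht' with rfl | rfl <;> omega
    · subst x2
      have := conv t' 0 dY' (by simpa using d0 X' hX' x3 x4)
      rcases hs with rfl | rfl <;> rcases ht' with rfl | rfl <;> omega
    · subst x3
      have := conv 0 t (by simpa using d0 X hX x1 x2) dY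
      rcases hs' with rfl | rfl <;> rcases ht with rfl | rfl <;> omega
    · subst x4
      have := conv 0 t' (by simpa using d0 X hX x1 x2) dY'
      rcases hs' with rfl | rfl <;> rcases ht' with rfl | rfl <;> omega
  obtain ⟨⟨n1, n2⟩, n3, n4⟩ := hdis
  set S : Finset (Cfsg.IrrCharacter G) := {oneChar G, X, X', Y, Y'} with hS
  have hsumS : ∀ {A : Type} [AddCommMonoid A] (f : Cfsg.IrrCharacter G → A), ∑ χ ∈ S, f χ =
      f (oneChar G) + (f X + (f X' + (f Y + f Y'))) := by
    intro A _ f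
    rw [hS, Finset.sum_insert, Finset.sum_insert, Finset.sum_insert, Finset.sum_insert,
      Finset.sum_singleton]
    all_goals simp [hX.symm, hX'.symm, hY.symm, hY'.symm, hXX, hYY, n1, n2, n3, n4]
  have hval1 : val M (e₁ * e₂) (oneChar G) = 1 := by
    rw [val, if_pos oneChar_mem_principalBlock, oneChar_apply]
  -- the norm of the column
  have hnormv : ∑ χ, Complex.normSq (val M (e₁ * e₂) χ) = 9 := by
    have hc := column' h h9 hM (e₁ * e₂)
    rw [ind, if_pos (by rw [pow_self (mul_mem h.mem₁ h.mem₂)]), mul_one] at hc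
    have : ((∑ χ, Complex.normSq (val M (e₁ * e₂) χ) : ℝ) : ℂ) = ((9 : ℝ) : ℂ) := by
      rw [Complex.ofReal_sum]
      push_cast
      rw [← hc]
      refine Finset.sum_congr rfl fun χ _ => ?_
      rw [← Complex.mul_conj, val]
      split_ifs <;> simp
    exact_mod_cast this
  have hle : ∑ χ ∈ S, Complex.normSq (val M (e₁ * e₂) χ) ≤ 9 :=
    hnormv ▸ Finset.sum_le_univ_sum_of_nonneg fun χ => Complex.normSq_nonneg _
  have hvalS : ∑ χ ∈ S, Complex.normSq (val M (e₁ * e₂) χ) =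
      ((1 + (w ^ 2 + (w' ^ 2 + (z ^ 2 + z' ^ 2))) : ℤ) : ℝ) := by
    rw [hsumS, hval1, vX, vX', vY, vY', map_one]
    simp only [← Complex.ofReal_intCast, Complex.normSq_ofReal]
    push_cast
    ring
  have hzint : 1 + (w ^ 2 + (w' ^ 2 + (z ^ 2 + z' ^ 2))) ≤ 9 := by
    rw [hvalS] at hle
    exact_mod_cast hle
  -- a pair not vanishing at `e₁ e₂`
  have hfin : ∀ (U V : Cfsg.IrrCharacter G) (r r' x x' : ℤ), U ≠ oneChar G → V ≠ oneChar G →
      Bound.Rat' U → Bound.Rat' V → val M (e₁ * e₂) U = x → val M (e₁ * e₂) V = x' →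
      (r = 1 ∨ r = -1) → (r' = 1 ∨ r' = -1) →
      r * Cfsg.charDegree (U : G → ℂ) + r' * Cfsg.charDegree (V : G → ℂ) = 1 →
      r * x + r' * x' = -2 → x ^ 2 + x' ^ 2 ≤ 8 → x ≠ 0 → x' ≠ 0 → One.Out G := by
    intro U V r r' x x' hU hV rU rV vU vV hr hr' hdeg hsum hsq hx hx'
    have hb : ∀ y : ℤ, y ^ 2 ≤ 8 → -2 ≤ y ∧ y ≤ 2 := fun y hy => by constructor <;> nlinarith
    have bx := hb x (by nlinarith [sq_nonneg x'])
    have bx' := hb x' (by nlinarith [sq_nonneg x])
    have hmem : ∀ (W : Cfsg.IrrCharacter G) (y : ℤ), val M (e₁ * e₂) W = y → y ≠ 0 →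
        (y = 1 ∨ y = -1) → ¬ 3 ∣ Cfsg.charDegree (W : G → ℂ) := by
      intro W y hy hy0 hy1 h3
      have hWB : W ∈ Cfsg.principalBlock M G := by
        by_contra hWB
        rw [val, if_neg hWB] at hy
        exact hy0 (by exact_mod_cast hy.symm)
      rw [val, if_pos hWB] at hy
      have hv1 : e₁ * e₂ ≠ 1 := fun e => absurd (h.indep 1 1 (by simpa using e)).1 (by decide)
      have hv3 : (e₁ * e₂) ^ 3 = 1 := by
        rw [(show Commute e₁ e₂ from hvv.symm).mul_pow, h.cube₁, h.cube₂, one_mul]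
      have ho : orderOf (e₁ * e₂) = 3 := orderOf_eq_prime hv3 hv1
      haveI := Fintype.ofFinite (Subgroup.zpowers (e₁ * e₂))
      obtain ⟨n, hn⟩ := H80.ClassMult.exists_sum_subgroup W (Subgroup.zpowers (e₁ * e₂))
      rw [← (finEquivZPowers (isOfFinOrder_of_finite (e₁ * e₂))).sum_comp, Nat.card_zpowers,
        ← (finCongr ho.symm).sum_comp, Fin.sum_univ_three] at hn
      simp only [finEquivZPowers_apply, finCongr_apply, Fin.coe_cast, Fin.val_zero, Fin.val_one,
        pow_zero, pow_one, Fin.val_two] at hn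
      rw [ho] at hn
      rw [show (e₁ * e₂) ^ 2 = (e₁ * e₂)⁻¹ from eq_inv_of_mul_eq_one_left (by rw [← pow_succ, hv3]),
        apply_inv (isCharacter_irr W), hy, map_intCast, DegreeBounds.Basic.charDegree_irr] at hn
      have hn' : (Cfsg.charDegree (W : G → ℂ) : ℤ) + y + y = 3 * n := by exact_mod_cast hn
      rcases hy1 with rfl | rfl <;> omega
    have hu : (x = 1 ∨ x = -1) ∧ (x' = 1 ∨ x' = -1) := by
      rcases hr with rfl | rfl <;> rcases hr' with rfl | rfl <;> omega
    have hU3 := hmem U x vU hx hu.1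
    have hV3 := hmem V x' vV hx' hu.2
    have hperf := SmallGroups.Sylow.commutator_eq_top hG
    have one_lt : ∀ W : Cfsg.IrrCharacter G, W ≠ oneChar G → 1 < Cfsg.charDegree (W : G → ℂ) := by
      intro W hW
      have := DegreeBounds.Basic.charDegree_pos W
      by_contra hc
      exact hW (FirstPower.Consequences.charDegree_eq_one_of_perfect hperf W (by omega))
    have hU1 := one_lt U hU
    have hV1 := one_lt V hV
    have hUd : Cfsg.charDegree (U : G → ℂ) ∣ 9 * 2 ^ a * q ^ b := by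
      rw [← hcard]; exact DegreeBounds.Basic.charDegree_dvd U
    have hVd : Cfsg.charDegree (V : G → ℂ) ∣ 9 * 2 ^ a * q ^ b := by
      rw [← hcard]; exact DegreeBounds.Basic.charDegree_dvd V
    have hp := Bound.pair hq hq2 hq3 hU1 hV1 hUd hVd hU3 hV3
      (by rcases hr with rfl | rfl <;> rcases hr' with rfl | rfl <;> omega)
    have hnext : Cfsg.charDegree (U : G → ℂ) + 1 = Cfsg.charDegree (V : G → ℂ) ∨
        Cfsg.charDegree (V : G → ℂ) + 1 = Cfsg.charDegree (U : G → ℂ) := by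
      rcases hr with rfl | rfl <;> rcases hr' with rfl | rfl <;> omega
    refine Bound.of_rat hG hq hq2 hq3 hcard hU rU (by rcases hp with ⟨e, -⟩ | ⟨e, -⟩ <;> omega)
      fun h5 => ?_
    have h2 : ∀ i n : ℕ, n = 2 ^ i → n ≤ 6 → 4 ≤ n → n ≤ 4 := by
      intro i n hn h6 h4
      have : i < 3 := (Nat.pow_lt_pow_iff_right (by norm_num : 1 < 2)).1
        (lt_of_le_of_lt (hn ▸ h6) (by norm_num))
      interval_cases i <;> omega
    rcases hp with ⟨e, i, e'⟩ | ⟨e, i, e'⟩
    · exact ⟨V, hV, rV, h2 i _ e' (by omega) (by omega)⟩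
    · exact ⟨U, hU, rU, h2 i _ e' (by omega) (by omega)⟩
  by_cases hA : w ≠ 0 ∧ w' ≠ 0
  · exact hfin X X' s s' w w' hX hX' rX rX' vX vX' hs hs' hd hw
      (by nlinarith [sq_nonneg z, sq_nonneg z']) hA.1 hA.2
  by_cases hB : z ≠ 0 ∧ z' ≠ 0
  · exact hfin Y Y' t t' z z' hY hY' rY rY' vY vY' ht ht' he hz
      (by nlinarith [sq_nonneg w, sq_nonneg w']) hB.1 hB.2
  exfalso
  have four : ∀ r r' x x' : ℤ, (r = 1 ∨ r = -1) → (r' = 1 ∨ r' = -1) → r * x + r' * x' = -2 →
      ¬ (x ≠ 0 ∧ x' ≠ 0) → x ^ 2 + x' ^ 2 = 4 ∧ Even x ∧ Even x' := by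
    intro r r' x x' hr hr' hsum hne
    rcases (not_and_or.1 hne).imp not_not.1 not_not.1 with rfl | rfl
    · rcases hr' with rfl | rfl <;>
        rcases (show x' = 2 ∨ x' = -2 by omega) with rfl | rfl <;>
        exact ⟨by norm_num, by decide, by decide⟩
    · rcases hr with rfl | rfl <;>
        rcases (show x = 2 ∨ x = -2 by omega) with rfl | rfl <;>
        exact ⟨by norm_num, by decide, by decide⟩
  obtain ⟨q1, ew, ew'⟩ := four s s' w w' hs hs' hw hA
  obtain ⟨q2, ez, ez'⟩ := four t t' z z' ht ht' hz hB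
  have hout : ∀ χ ∉ S, val M (e₁ * e₂) χ = 0 := by
    intro χ hχ
    have hsplit := Finset.sum_add_sum_compl S fun χ => Complex.normSq (val M (e₁ * e₂) χ)
    have h8 : 1 + (w ^ 2 + (w' ^ 2 + (z ^ 2 + z' ^ 2))) = 9 := by omega
    rw [hnormv, hvalS, h8] at hsplit
    push_cast at hsplit
    have h0 : ∑ χ ∈ Sᶜ, Complex.normSq (val M (e₁ * e₂) χ) = 0 := by linarith
    exact Complex.normSq_eq_zero.1
      ((Finset.sum_eq_zero_iff_of_nonneg fun χ _ => Complex.normSq_nonneg _).1 h0 χ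
        (Finset.mem_compl.2 hχ))
  have hcol := column' h h9 hM 1
  rw [ind, if_neg (fun e => by
    rw [one_pow, isConj_one_right] at e
    exact absurd (h.indep 1 1 (by simpa using e)).1 (by decide)), mul_zero,
    ← Finset.sum_subset (Finset.subset_univ S) (fun χ _ hχ => by rw [hout χ hχ, zero_mul]),
    hsumS, hval1, vX, vX', vY, vY'] at hcol
  simp only [oneChar_apply, map_one, one_mul, DegreeBounds.Basic.charDegree_irr, map_natCast]
    at hcol
  obtain ⟨k1, rfl⟩ := ew
  obtain ⟨k2, rfl⟩ := ew'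
  obtain ⟨k3, rfl⟩ := ez
  obtain ⟨k4, rfl⟩ := ez'
  have : (1 + 2 * (k1 * Cfsg.charDegree (X : G → ℂ) + k2 * Cfsg.charDegree (X' : G → ℂ) +
      k3 * Cfsg.charDegree (Y : G → ℂ) + k4 * Cfsg.charDegree (Y' : G → ℂ)) : ℤ) = 0 := by
    have e : ((1 + 2 * (k1 * Cfsg.charDegree (X : G → ℂ) + k2 * Cfsg.charDegree (X' : G → ℂ) +
      k3 * Cfsg.charDegree (Y : G → ℂ) + k4 * Cfsg.charDegree (Y' : G → ℂ)) : ℤ) : ℂ) =
        ((0 : ℤ) : ℂ) := by
      push_cast at hcol ⊢
      linear_combination hcol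
    exact_mod_cast e
  omega

end Cfsg.Agent.Lib.NineTwoQ78.Klein
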