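import Cfsg.Agent.Lib.FpfBlock.Setting
import Cfsg.Agent.Lib.SmallGroups.Sylow

/-!
# A Sylow 3-subgroup of order nine with at least three classes of non-trivial 3-elements
-/

set_option autoImplicit false
set_option linter.style.haveILetI false

namespace Cfsg.Agent.Lib.NineTwoQ78.Local

open Cfsg.Agent.Lib

universe u

variable {G : Type u} [Group G] [Finite G]

/-- The automiser is a four group, diagonal in `e₁`, `e₂`. -/
structure Four (P : Sylow 3 G) (e₁ e₂ : G) : Prop where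
  mem₁ : e₁ ∈ (P : Subgroup G)
  mem₂ : e₂ ∈ (P : Subgroup G)
  cube₁ : e₁ ^ 3 = 1
  cube₂ : e₂ ^ 3 = 1
  gen : ∀ z ∈ (P : Subgroup G), ∃ i j : Fin 3, z = e₁ ^ (i : ℕ) * e₂ ^ (j : ℕ)
  indep : ∀ i j : Fin 3, e₁ ^ (i : ℕ) * e₂ ^ (j : ℕ) = 1 → i = 0 ∧ j = 0
  act : ∀ c ∈ Subgroup.normalizer ((P : Subgroup G) : Set G),
    (c * e₁ * c⁻¹ = e₁ ∨ c * e₁ * c⁻¹ = e₁⁻¹) ∧ (c * e₂ * c⁻¹ = e₂ ∨ c * e₂ * c⁻¹ = e₂⁻¹)
  flip₁ : ∃ c ∈ Subgroup.normalizer ((P : Subgroup G) : Set G),
    c * e₁ * c⁻¹ = e₁⁻¹ ∧ c * e₂ * c⁻¹ = e₂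
  flip₂ : ∃ c ∈ Subgroup.normalizer ((P : Subgroup G) : Set G),
    c * e₁ * c⁻¹ = e₁ ∧ c * e₂ * c⁻¹ = e₂⁻¹

omit [Finite G] in
theorem ne_inv {P : Sylow 3 G} {z : G} (hz : z ∈ (P : Subgroup G)) (hz1 : z ≠ 1) : z ≠ z⁻¹ := by
  intro h
  haveI : Fact (Nat.Prime 3) := ⟨Nat.prime_three⟩
  obtain ⟨k, hk⟩ := IsPGroup.iff_orderOf.mp P.2 ⟨z, hz⟩
  rw [Subgroup.orderOf_mk] at hk
  have h2 : orderOf z ∣ 2 := orderOf_dvd_of_pow_eq_one (by
    rw [pow_two]; nth_rw 2 [h]; rw [mul_inv_cancel])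
  rw [hk] at h2
  have := Nat.eq_one_of_dvd_coprimes ((by norm_num : Nat.Coprime 3 2).pow_left k) dvd_rfl h2
  exact hz1 (orderOf_eq_one_iff.mp (hk.trans this))

/-- The two possible automisers. -/
theorem dichotomy [IsSimpleGroup G] (hG : ¬ IsMulCommutative G) (P : Sylow 3 G)
    (h9 : Nat.card (P : Subgroup G) = 9)
    (h3 : 3 ≤ Nat.card {C : ConjClasses G // ∃ g ∈ C.carrier, g ≠ 1 ∧ orderOf g ∣ 9}) :
    (∃ n : G, FpfBlock.Setting.Fpf P n 2) ∨ ∃ e₁ e₂ : G, Four P e₁ e₂ := by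
  classical
  haveI : Fact (Nat.Prime 3) := ⟨Nat.prime_three⟩
  haveI := Fintype.ofFinite G
  haveI := Fintype.ofFinite (ConjClasses G)
  set N := Subgroup.normalizer ((P : Subgroup G) : Set G) with hN
  set C := Subgroup.centralizer ((P : Subgroup G) : Set G) with hC
  have hcm : IsMulCommutative (P : Subgroup G) :=
    IsPGroup.isMulCommutative_of_card_eq_prime_sq (p := 3) (by rw [h9]; rfl)
  have hcomm : ∀ a ∈ (P : Subgroup G), ∀ b ∈ (P : Subgroup G), a * b = b * a := fun a ha b hb =>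
    congrArg Subtype.val (hcm.is_comm.comm (⟨a, ha⟩ : (P : Subgroup G)) ⟨b, hb⟩)
  have hPC : (P : Subgroup G) ≤ C := fun a ha b hb => hcomm b hb a ha
  have hfus : ∀ a ∈ (P : Subgroup G), ∀ b ∈ (P : Subgroup G), IsConj a b →
      ∃ c ∈ N, c * a * c⁻¹ = b := by
    intro a ha b hb hab
    obtain ⟨g, hg⟩ := isConj_iff.1 hab
    obtain ⟨c, hc, hcc⟩ := P.conj_eq_normalizer_conj_of_mem a g⁻¹ ha (by rw [inv_inv, hg]; exact hb)
    rw [inv_inv, hg] at hcc
    exact ⟨c⁻¹, inv_mem hc, by rw [hcc, inv_inv]⟩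
  have hCN : C ≤ N := SmallGroups.Sylow.centralizer_le_normalizer _
  have hidx : ¬ 3 ∣ C.relIndex N := fun h => P.not_dvd_index
    ((h.trans (Subgroup.relIndex_dvd_of_le_left N hPC)).trans
      (Subgroup.relIndex_dvd_index_of_le Subgroup.le_normalizer))
  -- orbits
  set S : G → Finset G := fun x => Finset.univ.filter fun y => ∃ c ∈ N, c * x * c⁻¹ = y with hS
  have hSmem : ∀ x y, y ∈ S x ↔ ∃ c ∈ N, c * x * c⁻¹ = y := fun x y => by simp [hS]
  have hSP : ∀ x ∈ (P : Subgroup G), ∀ y ∈ S x, y ∈ (P : Subgroup G) := by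
    intro x hx y hy
    obtain ⟨c, hc, rfl⟩ := (hSmem x y).1 hy
    exact (Subgroup.mem_normalizer_iff.1 hc x).1 hx
  have hS3 : ∀ x ∈ (P : Subgroup G), ¬ 3 ∣ (S x).card := by
    intro x hx h
    set T := Subgroup.centralizer ({x} : Set G) ⊓ N with hT
    have hCT : C ≤ T := le_inf (fun c hc => Subgroup.mem_centralizer_singleton_iff.2
      ((Subgroup.mem_centralizer_iff.1 hc x hx).symm)) hCN
    have hTcard : (S x).card = T.relIndex N := by
      rw [Subgroup.relIndex, Subgroup.index_eq_card, ← Fintype.card_coe, ← Nat.card_eq_fintype_card]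
      refine (Nat.card_congr (Equiv.ofBijective (fun q : N ⧸ T.subgroupOf N => Quotient.liftOn' q
        (fun c : N => (⟨(c : G) * x * (c : G)⁻¹, (hSmem x _).2 ⟨c, c.2, rfl⟩⟩ : S x)) ?_) ⟨?_, ?_⟩)).symm
      · intro c d hcd
        rw [QuotientGroup.leftRel_apply, Subgroup.mem_subgroupOf] at hcd
        have hd := Subgroup.mem_centralizer_singleton_iff.1 (Subgroup.mem_inf.1 hcd).1
        refine Subtype.ext ?_
        push_cast at hd
        calc (c : G) * x * (c : G)⁻¹ = (c : G) * (x * ((c : G)⁻¹ * d)) * (d : G)⁻¹ := by group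
          _ = (c : G) * ((c : G)⁻¹ * d * x) * (d : G)⁻¹ := by rw [hd]
          _ = (d : G) * x * (d : G)⁻¹ := by group
      · intro q q'
        induction q using QuotientGroup.induction_on with | _ c => ?_
        induction q' using QuotientGroup.induction_on with | _ d => ?_
        intro hcd
        have hcd' : (c : G) * x * (c : G)⁻¹ = (d : G) * x * (d : G)⁻¹ := congrArg Subtype.val hcd
        rw [QuotientGroup.eq, Subgroup.mem_subgroupOf]
        refine Subgroup.mem_inf.2 ⟨Subgroup.mem_centralizer_singleton_iff.2 ?_, (c⁻¹ * d).2⟩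
        push_cast
        calc (c : G)⁻¹ * d * x = (c : G)⁻¹ * ((d : G) * x * (d : G)⁻¹) * d := by group
          _ = (c : G)⁻¹ * ((c : G) * x * (c : G)⁻¹) * d := by rw [hcd']
          _ = _ := by group
      · rintro ⟨y, hy⟩
        obtain ⟨c, hc, rfl⟩ := (hSmem x y).1 hy
        exact ⟨QuotientGroup.mk (⟨c, hc⟩ : N), rfl⟩
    exact hidx (h.trans (hTcard ▸ Subgroup.relIndex_dvd_of_le_left N hCT))
  have hS1 : ∀ x ∈ (P : Subgroup G), x ≠ 1 → 2 ≤ (S x).card := by
    intro x hx hx1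
    have hself : x ∈ S x := (hSmem x x).2 ⟨1, one_mem _, by simp⟩
    by_contra hc
    refine hx1 (SmallGroups.Sylow.eq_one_of_central_in_normalizer hG P hPC hx fun c hc' => ?_)
    have : c * x * c⁻¹ = x := Finset.card_le_one.1 (by omega) _ ((hSmem x _).2 ⟨c, hc', rfl⟩) _ hself
    exact mul_inv_eq_iff_eq_mul.1 this
  -- representatives
  set Q := {K : ConjClasses G // ∃ g ∈ K.carrier, g ≠ 1 ∧ orderOf g ∣ 9}
  have hrep : ∀ K : Q, ∃ x ∈ (P : Subgroup G), x ≠ 1 ∧ ConjClasses.mk x = K.1 := by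
    rintro ⟨K, g, hg, hg1, hord⟩
    obtain ⟨k, -, hk⟩ := (Nat.dvd_prime_pow Nat.prime_three).1
      (show orderOf g ∣ 3 ^ 2 from hord)
    obtain ⟨c, hc⟩ := FpfBlock.Setting.exists_conj_mem (P := P) ⟨k, hk⟩
    refine ⟨_, hc, fun e => hg1 (conj_eq_one_iff.1 e), ?_⟩
    refine Eq.trans ?_ (ConjClasses.mem_carrier_iff_mk_eq.1 hg)
    rw [ConjClasses.mk_eq_mk_iff_isConj]
    exact (isConj_iff.2 ⟨c, rfl⟩).symm
  choose r hr hr1 hrK using hrep
  have hdisj : ∀ K K' : Q, K ≠ K' → Disjoint (S (r K)) (S (r K')) := by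
    intro K K' hne
    rw [Finset.disjoint_left]
    intro y hy hy'
    obtain ⟨c, -, hc⟩ := (hSmem _ _).1 hy
    obtain ⟨c', -, hc'⟩ := (hSmem _ _).1 hy'
    refine hne (Subtype.ext ?_)
    rw [← hrK K, ← hrK K', ConjClasses.mk_eq_mk_iff_isConj]
    exact (isConj_iff.2 ⟨c, hc⟩).trans (isConj_iff.2 ⟨c', hc'⟩).symm
  obtain ⟨K₁, K₂, hK, hc1, hc2⟩ : ∃ K₁ K₂ : Q, K₁ ≠ K₂ ∧ (S (r K₁)).card = 2 ∧
      (S (r K₂)).card = 2 := by
    obtain ⟨t, -, htc⟩ := Finset.exists_subset_card_eq (s := (Finset.univ : Finset Q)) (n := 3)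
      (by rw [Finset.card_univ, ← Nat.card_eq_fintype_card]; exact h3)
    obtain ⟨A, B, D, hAB, hAD, hBD, rfl⟩ := Finset.card_eq_three.1 htc
    have hle : (S (r A)).card + (S (r B)).card + (S (r D)).card ≤ 8 := by
      rw [← Finset.card_union_of_disjoint (hdisj _ _ hAB),
        ← Finset.card_union_of_disjoint (Finset.disjoint_union_left.2
          ⟨hdisj _ _ hAD, hdisj _ _ hBD⟩)]
      refine (Finset.card_le_card (t := (Finset.univ.filter fun z => z ∈ (P : Subgroup G)).erase 1)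
        fun y hy => ?_).trans ?_
      · simp only [Finset.mem_union] at hy
        have aux : ∀ K : Q, y ∈ S (r K) → y ∈ (Finset.univ.filter fun z => z ∈ (P : Subgroup G)).erase 1 := by
          intro K hK
          refine Finset.mem_erase.2 ⟨fun e => ?_, by simpa using hSP _ (hr K) y hK⟩
          obtain ⟨c, -, hc⟩ := (hSmem _ _).1 hK
          exact hr1 K (conj_eq_one_iff.1 (hc.trans e))
        rcases hy with (h | h) | h <;> exact aux _ h
      · rw [Finset.card_erase_of_mem (by simp [one_mem]), ← Fintype.card_subtype,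
          ← Nat.card_eq_fintype_card]
        exact le_of_eq (by rw [show Nat.card {z // z ∈ (P : Subgroup G)} = 9 from h9])
    have a2 := hS1 _ (hr A) (hr1 A); have b2 := hS1 _ (hr B) (hr1 B)
    have d2 := hS1 _ (hr D) (hr1 D)
    have a3 := hS3 _ (hr A); have b3 := hS3 _ (hr B); have d3 := hS3 _ (hr D)
    rcases (by omega : (S (r A)).card = 2 ∧ (S (r B)).card = 2 ∨
        (S (r A)).card = 2 ∧ (S (r D)).card = 2 ∨ (S (r B)).card = 2 ∧ (S (r D)).card = 2) with
      h | h | h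
    · exact ⟨A, B, hAB, h⟩
    · exact ⟨A, D, hAD, h⟩
    · exact ⟨B, D, hBD, h⟩
  -- an orbit of two elements is a pair of inverses
  have hpair : ∀ x ∈ (P : Subgroup G), x ≠ 1 → (S x).card = 2 →
      (∀ c ∈ N, c * x * c⁻¹ = x ∨ c * x * c⁻¹ = x⁻¹) ∧ ∃ c ∈ N, c * x * c⁻¹ = x⁻¹ := by
    intro x hx hx1 hcard
    obtain ⟨u, v, huv, hSuv⟩ := Finset.card_eq_two.1 hcard
    have hself : x ∈ S x := (hSmem x x).2 ⟨1, one_mem _, by simp⟩
    obtain ⟨y, hyx, hSy⟩ : ∃ y, y ≠ x ∧ S x = {x, y} := by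
      rw [hSuv, Finset.mem_insert, Finset.mem_singleton] at hself
      rcases hself with rfl | rfl
      · exact ⟨v, huv.symm, hSuv⟩
      · exact ⟨u, huv, by rw [hSuv, Finset.pair_comm]⟩
    have hy : y ∈ S x := by rw [hSy]; simp
    have hyP := hSP x hx y hy
    obtain ⟨c₀, hc₀, hc₀y⟩ := (hSmem x y).1 hy
    have htwo : ∀ c ∈ N, c * x * c⁻¹ = x ∨ c * x * c⁻¹ = y := fun c hc => by
      simpa [hSy] using (hSmem x _).2 ⟨c, hc, rfl⟩
    have hfix : x * y = 1 := by
      refine SmallGroups.Sylow.eq_one_of_central_in_normalizer hG P hPC (mul_mem hx hyP)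
        fun c hc => mul_inv_eq_iff_eq_mul.1 ?_
      rw [show c * (x * y) * c⁻¹ = (c * x * c⁻¹) * (c * y * c⁻¹) by group]
      have hcy : c * y * c⁻¹ = x ∨ c * y * c⁻¹ = y := by
        have := htwo (c * c₀) (mul_mem hc hc₀)
        rwa [show c * c₀ * x * (c * c₀)⁻¹ = c * (c₀ * x * c₀⁻¹) * c⁻¹ by group, hc₀y] at this
      have hne : c * x * c⁻¹ ≠ c * y * c⁻¹ := fun e => hyx (by simpa using e.symm)
      rcases htwo c hc with e | e <;> rcases hcy with e' | e' <;> rw [e, e'] at hne ⊢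
      · exact absurd rfl hne
      · exact hcomm y hyP x hx
      · exact absurd rfl hne
    have hyi : y = x⁻¹ := eq_inv_of_mul_eq_one_right hfix
    exact ⟨fun c hc => hyi ▸ htwo c hc, c₀, hc₀, hyi ▸ hc₀y⟩
  set x := r K₁ with hxdef
  set y := r K₂ with hydef
  have hx : x ∈ (P : Subgroup G) := hr K₁
  have hy : y ∈ (P : Subgroup G) := hr K₂
  obtain ⟨hxa, cx, hcx, hcx'⟩ := hpair x hx (hr1 K₁) hc1
  obtain ⟨hya, cy, hcy, hcy'⟩ := hpair y hy (hr1 K₂) hc2
  have hynot : ∀ z ∈ S x, y ≠ z := fun z hz e => Finset.disjoint_left.1 (hdisj K₁ K₂ hK) (e ▸ hz)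
    ((hSmem y y).2 ⟨1, one_mem _, by simp⟩)
  -- `x` and `y` generate
  have hgen : Subgroup.closure ({x, y} : Set G) = (P : Subgroup G) := by
    set H := Subgroup.closure ({x, y} : Set G) with hH
    have hle : H ≤ (P : Subgroup G) := by
      rw [hH, Subgroup.closure_le]
      rintro z (rfl | rfl) <;> assumption
    by_contra hne
    have hlt : Nat.card H < 9 := h9 ▸ lt_of_le_of_ne (Nat.le_of_dvd Nat.card_pos
      (Subgroup.card_dvd_of_le hle)) fun e => hne (Subgroup.eq_of_le_of_card_ge hle (le_of_eq e.symm))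
    obtain ⟨k, hk, hk'⟩ := (Nat.dvd_prime_pow Nat.prime_three).1
      (show Nat.card H ∣ 3 ^ 2 from ((Subgroup.card_dvd_of_le hle).trans (dvd_of_eq h9)).trans (dvd_of_eq (by norm_num)))
    have hxH : x ∈ H := Subgroup.subset_closure (by simp)
    have hyH : y ∈ H := Subgroup.subset_closure (by simp)
    have hk1 : k = 1 := by
      interval_cases k
      · rw [pow_zero, Subgroup.card_eq_one] at hk'
        rw [hk', Subgroup.mem_bot] at hxH
        exact absurd hxH (hr1 K₁)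
      · rfl
      · omega
    subst hk1
    rw [pow_one] at hk'
    have hmem : (⟨y, hyH⟩ : H) ∈ Subgroup.zpowers (⟨x, hxH⟩ : H) :=
      mem_zpowers_of_prime_card hk' (fun e => hr1 K₁ (congrArg Subtype.val e))
    obtain ⟨i, hi⟩ := Subgroup.mem_zpowers_iff.1 hmem
    have hi' : x ^ i = y := by simpa using congrArg Subtype.val hi
    have h3 : x ^ 3 = 1 := by
      have := orderOf_dvd_iff_pow_eq_one.1 (hk' ▸ Subgroup.orderOf_dvd_natCard H hxH)
      exact this
    have hcase : i % 3 = 0 ∨ i % 3 = 1 ∨ i % 3 = 2 := by omega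
    have hmod : y = x ^ (i % 3) := by
      rw [← hi']
      conv_lhs => rw [← Int.mul_ediv_add_emod i 3, zpow_add, zpow_mul,
        show x ^ (3 : ℤ) = 1 from mod_cast h3, one_zpow, one_mul]
    rcases hcase with e | e | e <;> rw [e] at hmod
    · exact hr1 K₂ (by simpa using hmod)
    · exact hynot x ((hSmem x x).2 ⟨1, one_mem _, by simp⟩) (by simpa using hmod)
    · refine hynot x⁻¹ ((hSmem x _).2 ⟨cx, hcx, hcx'⟩) ?_
      rw [hmod, eq_inv_iff_mul_eq_one, ← h3]
      group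
  have hext : ∀ c d : G, c * x * c⁻¹ = d * x * d⁻¹ → c * y * c⁻¹ = d * y * d⁻¹ →
      ∀ z ∈ (P : Subgroup G), c * z * c⁻¹ = d * z * d⁻¹ := by
    intro c d h1 h2 z hz
    rw [← hgen] at hz
    induction hz using Subgroup.closure_induction with
    | mem w hw => rcases hw with rfl | rfl <;> assumption
    | one => simp
    | mul a b _ _ ha hb =>
      rw [show c * (a * b) * c⁻¹ = c * a * c⁻¹ * (c * b * c⁻¹) by group, ha, hb]; group
    | inv a _ ha => rw [← conj_inv, ha, conj_inv]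
  have hinvall : ∀ c : G, c * x * c⁻¹ = x⁻¹ → c * y * c⁻¹ = y⁻¹ →
      ∀ z ∈ (P : Subgroup G), c * z * c⁻¹ = z⁻¹ := by
    intro c h1 h2 z hz
    have hz' := hz
    rw [← hgen] at hz
    induction hz using Subgroup.closure_induction with
    | mem w hw => rcases hw with rfl | rfl <;> assumption
    | one => simp
    | mul a b hma hmb ha hb =>
      rw [hgen] at hma hmb
      rw [show c * (a * b) * c⁻¹ = c * a * c⁻¹ * (c * b * c⁻¹) by group, ha hma, hb hmb,
        mul_inv_rev, hcomm _ (inv_mem hma) _ (inv_mem hmb)]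
    | inv a hma ha =>
      rw [hgen] at hma
      rw [← conj_inv, ha hma]
  by_cases hsame : ∀ c ∈ N, (c * x * c⁻¹ = x ↔ c * y * c⁻¹ = y)
  · refine Or.inl ⟨cx, ?_⟩
    have hxne := ne_inv hx (hr1 K₁)
    have hyne := ne_inv hy (hr1 K₂)
    have hdich : ∀ c ∈ N, (∀ z ∈ (P : Subgroup G), c * z * c⁻¹ = z) ∨
        ∀ z ∈ (P : Subgroup G), c * z * c⁻¹ = z⁻¹ := by
      intro c hc
      rcases hxa c hc with e | e
      · exact Or.inl fun z hz => by
          simpa using hext c 1 (by simpa using e) (by simpa using (hsame c hc).1 e) z hz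
      · refine Or.inr (hinvall c e ((hya c hc).resolve_left fun e' => hxne ?_))
        rw [← e, (hsame c hc).2 e']
    have hninv : ∀ z ∈ (P : Subgroup G), cx * z * cx⁻¹ = z⁻¹ := by
      refine (hdich cx hcx).resolve_left fun h => hxne ?_
      rw [← hcx', h x hx]
    have hpow : ∀ i : ℕ, ∀ z ∈ (P : Subgroup G),
        cx ^ i * z * (cx ^ i)⁻¹ = if Even i then z else z⁻¹ := by
      intro i
      induction i with
      | zero => intro z _; simp
      | succ i ih =>
        intro z hz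
        rw [pow_succ', show cx * cx ^ i * z * (cx * cx ^ i)⁻¹ =
          cx * (cx ^ i * z * (cx ^ i)⁻¹) * cx⁻¹ by group, ih z hz]
        by_cases he : Even i
        · rw [if_pos he, if_neg (by simpa [Nat.even_add_one] using he), hninv z hz]
        · rw [if_neg he, if_pos (by simpa [Nat.even_add_one] using he), ← conj_inv, hninv z hz,
            inv_inv]
    exact
      { pos := two_pos
        comm := hcomm
        mem := hcx
        pow := Subgroup.mem_centralizer_iff.2 fun z hz => by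
          have := hpow 2 z hz
          rw [if_pos even_two] at this
          exact (mul_inv_eq_iff_eq_mul.1 this).symm
        fix := fun z hz hz1 i hi => by
          rw [hpow i z hz] at hi
          by_contra h
          rw [if_neg (fun he => h (even_iff_two_dvd.1 he))] at hi
          exact ne_inv hz hz1 hi.symm
        fus := fun a ha b hb hab => by
          obtain ⟨c, hc, rfl⟩ := hfus a ha b hb hab
          rcases hdich c hc with e | e
          · exact ⟨0, by simp [e a ha]⟩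
          · exact ⟨1, by simp [e a ha, hninv a ha]⟩
        cen := fun c hc z hz hz1 hcz => by
          rcases hdich c hc with e | e
          · exact Subgroup.mem_centralizer_iff.2 fun w hw =>
              (mul_inv_eq_iff_eq_mul.1 (e w hw)).symm
          · refine absurd ?_ (ne_inv hz hz1)
            rw [← e z hz]
            exact (mul_inv_eq_iff_eq_mul.2 hcz.eq).symm }
  · refine Or.inr ⟨x, y, ?_⟩
    push Not at hsame
    obtain ⟨c₁, hc₁, hdiff⟩ := hsame
    have hxne := ne_inv hx (hr1 K₁)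
    have hyne := ne_inv hy (hr1 K₂)
    -- products of the sign changes
    have hmulx : ∀ c d : G, c * d * x * (c * d)⁻¹ = c * (d * x * d⁻¹) * c⁻¹ := fun c d => by group
    have hmuly : ∀ c d : G, c * d * y * (c * d)⁻¹ = c * (d * y * d⁻¹) * c⁻¹ := fun c d => by group
    obtain ⟨f₁, f₂⟩ : (∃ c ∈ N, c * x * c⁻¹ = x⁻¹ ∧ c * y * c⁻¹ = y) ∧
        ∃ c ∈ N, c * x * c⁻¹ = x ∧ c * y * c⁻¹ = y⁻¹ := by
      rcases hdiff with ⟨e1, e2⟩ | ⟨e1, e2⟩
      · have e2' := (hya c₁ hc₁).resolve_left e2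
        refine ⟨?_, c₁, hc₁, e1, e2'⟩
        rcases hya cx hcx with e | e
        · exact ⟨cx, hcx, hcx', e⟩
        · refine ⟨c₁ * cx, mul_mem hc₁ hcx, ?_, ?_⟩
          · rw [hmulx, hcx', ← conj_inv, e1]
          · rw [hmuly, e, ← conj_inv, e2', inv_inv]
      · have e1' := (hxa c₁ hc₁).resolve_left e1
        refine ⟨⟨c₁, hc₁, e1', e2⟩, ?_⟩
        rcases hxa cy hcy with e | e
        · exact ⟨cy, hcy, e, hcy'⟩
        · refine ⟨c₁ * cy, mul_mem hc₁ hcy, ?_, ?_⟩
          · rw [hmulx, e, ← conj_inv, e1', inv_inv]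
          · rw [hmuly, hcy', ← conj_inv, e2]
    -- exponent three
    have hcube : ∀ z ∈ (P : Subgroup G), z ^ 3 = 1 := by
      intro z hz
      by_contra hz3
      obtain ⟨k, hk⟩ := IsPGroup.iff_orderOf.mp P.2 ⟨z, hz⟩
      have hd : orderOf z ∣ 9 := h9 ▸ Subgroup.orderOf_dvd_natCard _ hz
      rw [Subgroup.orderOf_mk] at hk
      have h9z : orderOf z = 9 := by
        obtain ⟨l, hl, hl'⟩ := (Nat.dvd_prime_pow Nat.prime_three).1 (show orderOf z ∣ 3 ^ 2 from hd)
        interval_cases l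
        · exact absurd (orderOf_dvd_iff_pow_eq_one.1 (hl' ▸ one_dvd 3)) hz3
        · exact absurd (orderOf_dvd_iff_pow_eq_one.1 (hl' ▸ dvd_rfl)) hz3
        · exact hl'
      have hall : Subgroup.zpowers z = (P : Subgroup G) :=
        Subgroup.eq_of_le_of_card_ge (Subgroup.zpowers_le.2 hz) (by rw [Nat.card_zpowers, h9, h9z])
      obtain ⟨c, hc, hcX, hcY⟩ := f₁
      have hz' : c * z * c⁻¹ ∈ Subgroup.zpowers z := hall ▸ (Subgroup.mem_normalizer_iff.1 hc z).1 hz
      obtain ⟨j, hj⟩ := Subgroup.mem_zpowers_iff.1 hz'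
      obtain ⟨ix, hix⟩ := Subgroup.mem_zpowers_iff.1 (hall ▸ hx : x ∈ Subgroup.zpowers z)
      obtain ⟨iy, hiy⟩ := Subgroup.mem_zpowers_iff.1 (hall ▸ hy : y ∈ Subgroup.zpowers z)
      -- `c` acts as the power `j`
      have e1 : x ^ j = x⁻¹ := by
        rw [← hcX, ← hix, ← conj_zpow, ← hj, ← zpow_mul, ← zpow_mul, mul_comm]
      have e2 : y ^ j = y := by
        conv_rhs => rw [← hcY, ← hiy, ← conj_zpow, ← hj, ← zpow_mul, mul_comm, zpow_mul, hiy]
      have a1 : x ^ (j + 1) = 1 := by rw [zpow_add, e1, zpow_one, inv_mul_cancel]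
      have a2 : y ^ (j - 1) = 1 := by rw [zpow_sub, e2, zpow_one, mul_inv_cancel]
      have h3x : ∀ (w : G), w ∈ (P : Subgroup G) → w ≠ 1 → (3 : ℤ) ∣ (orderOf w : ℤ) := by
        intro w hw hw1
        obtain ⟨l, hl⟩ := IsPGroup.iff_orderOf.mp P.2 ⟨w, hw⟩
        rw [Subgroup.orderOf_mk] at hl
        have hl0 : l ≠ 0 := by rintro rfl; exact hw1 (orderOf_eq_one_iff.1 hl)
        rw [hl]; exact_mod_cast dvd_pow_self 3 hl0
      have b1 := (h3x x hx (hr1 K₁)).trans (orderOf_dvd_iff_zpow_eq_one.2 a1)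
      have b2 := (h3x y hy (hr1 K₂)).trans (orderOf_dvd_iff_zpow_eq_one.2 a2)
      omega
    have hindep : ∀ i j : Fin 3, x ^ (i : ℕ) * y ^ (j : ℕ) = 1 → i = 0 ∧ j = 0 := by
      intro i j hij
      obtain ⟨c, hc, hcX, hcY⟩ := f₁
      have h1 : c * (x ^ (i : ℕ) * y ^ (j : ℕ)) * c⁻¹ = 1 := by rw [hij]; group
      rw [show c * (x ^ (i : ℕ) * y ^ (j : ℕ)) * c⁻¹ =
        (c * x ^ (i : ℕ) * c⁻¹) * (c * y ^ (j : ℕ) * c⁻¹) by group, ← conj_pow, ← conj_pow, hcX,
        hcY] at h1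
      have h2 : x ^ (i : ℕ) = x⁻¹ ^ (i : ℕ) :=
        mul_right_cancel (hij.trans h1.symm)
      have key : ∀ w ∈ (P : Subgroup G), w ≠ 1 → ∀ k : Fin 3, w ^ (k : ℕ) = 1 → k = 0 := by
        intro w hw hw1 k hk
        have ho : orderOf w = 3 := orderOf_eq_prime (hcube w hw) hw1
        have := ho ▸ orderOf_dvd_of_pow_eq_one hk
        omega
      have hi : i = 0 := by
        refine key x hx (hr1 K₁) i ?_
        by_contra hne
        refine ne_inv (pow_mem hx (i : ℕ)) hne ?_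
        rw [← inv_pow]; exact h2
      subst hi
      refine ⟨rfl, key y hy (hr1 K₂) j ?_⟩
      simpa using hij
    refine
      { mem₁ := hx
        mem₂ := hy
        cube₁ := hcube x hx
        cube₂ := hcube y hy
        gen := fun z hz => ?_
        indep := hindep
        act := fun c hc => ⟨hxa c hc, hya c hc⟩
        flip₁ := f₁
        flip₂ := f₂ }
    have hinj : Function.Injective fun ij : Fin 3 × Fin 3 =>
        (⟨x ^ (ij.1 : ℕ) * y ^ (ij.2 : ℕ), mul_mem (pow_mem hx _) (pow_mem hy _)⟩ :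
          (P : Subgroup G)) := by
      rintro ⟨i, j⟩ ⟨i', j'⟩ h
      have h' : x ^ (i : ℕ) * y ^ (j : ℕ) = x ^ (i' : ℕ) * y ^ (j' : ℕ) := congrArg Subtype.val h
      have hsub : ∀ w : G, w ^ 3 = 1 → ∀ a b : Fin 3,
          w ^ ((a - b : Fin 3) : ℕ) = w ^ (a : ℕ) * (w ^ (b : ℕ))⁻¹ := by
        intro w hw a b
        rw [eq_mul_inv_iff_mul_eq, ← pow_add, pow_eq_pow_mod _ hw]
        have : (((a - b : Fin 3) : ℕ) + (b : ℕ)) % 3 = (a : ℕ) := by
          have e := congrArg Fin.val (sub_add_cancel a b)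
          rwa [Fin.val_add] at e
        rw [this]
      obtain ⟨e1, e2⟩ := hindep (i - i') (j - j') (by
        rw [hsub x (hcube x hx), hsub y (hcube y hy), mul_assoc,
          ← mul_assoc (x ^ (i' : ℕ))⁻¹, hcomm _ (inv_mem (pow_mem hx _)) _ (pow_mem hy _),
          ← mul_assoc, ← mul_assoc, h',
          hcomm _ (pow_mem hx (i' : ℕ)) _ (pow_mem hy (j' : ℕ))]
        group)
      rw [sub_eq_zero] at e1 e2
      exact Prod.ext e1 e2
    obtain ⟨⟨i, j⟩, hij⟩ := ((Nat.bijective_iff_injective_and_card _).2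
      ⟨hinj, by rw [h9, Nat.card_prod, Nat.card_fin]⟩).2 ⟨z, hz⟩
    exact ⟨i, j, (congrArg Subtype.val hij).symm⟩

end Cfsg.Agent.Lib.NineTwoQ78.Local
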