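import Cfsg.Agent.Lib.NineTwoQ78.Inversion
import Cfsg.Agent.Lib.NineTwoQ78.Klein
import Cfsg.Agent.Lib.NineTwoQ78.AltSix
import Cfsg.Agent.S1011
import Mathlib.FieldTheory.Finite.GaloisField

/-!
# Simple groups of order `9 * 2 ^ a * q ^ b` with three classes of non-trivial 3-elements
-/

set_option autoImplicit false
set_option linter.style.haveILetI false

namespace Cfsg.Agent.Lib.NineTwoQ78.Main

open Cfsg.Agent.Lib

universe u

theorem not_dvd_three {q a b : ℕ} (hq : q.Prime) (hq3 : q ≠ 3) : ¬ 3 ∣ 2 ^ a * q ^ b := fun h => by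
  rcases Nat.prime_three.dvd_mul.1 h with h | h
  · have := (Nat.prime_dvd_prime_iff_eq Nat.prime_three Nat.prime_two).1
      (Nat.prime_three.dvd_of_dvd_pow h)
    omega
  · exact hq3 ((Nat.prime_dvd_prime_iff_eq Nat.prime_three hq).1
      (Nat.prime_three.dvd_of_dvd_pow h)).symm

theorem card_sylow {G : Type u} [Group G] [Finite G] {q a b : ℕ} (hq : q.Prime) (hq3 : q ≠ 3)
    (hcard : Nat.card G = 9 * 2 ^ a * q ^ b) (P : Sylow 3 G) :
    Nat.card (P : Subgroup G) = 9 := by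
  haveI : Fact (Nat.Prime 3) := ⟨Nat.prime_three⟩
  have h := SmallGroups.Sylow.card_sylow_eq P (a := 2) (m := 2 ^ a * q ^ b)
    (by rw [hcard, mul_assoc]; norm_num) (not_dvd_three hq hq3)
  rw [h]; norm_num

theorem out {G : Type u} [Group G] [Finite G] [IsSimpleGroup G] (hG : ¬ IsMulCommutative G)
    {q a b : ℕ} (hq : q.Prime) (hq2 : q ≠ 2) (hq3 : q ≠ 3) (hcard : Nat.card G = 9 * 2 ^ a * q ^ b)
    (h3 : 3 ≤ Nat.card {C : ConjClasses G // ∃ g ∈ C.carrier, g ≠ 1 ∧ orderOf g ∣ 9}) :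
    (∃ (F : Type) (_ : Field F) (_ : Fintype F), Fintype.card F = 8 ∧
        Nonempty (G ≃* Matrix.ProjectiveSpecialLinearGroup (Fin 2) F)) ∨
      Nonempty (G ≃* Matrix.ProjectiveSpecialLinearGroup (Fin 2) (ZMod 17)) := by
  classical
  haveI : Fact (Nat.Prime 3) := ⟨Nat.prime_three⟩
  haveI := Fintype.ofFinite G
  haveI := Fintype.ofFinite (Cfsg.IrrCharacter G)
  obtain ⟨P⟩ : Nonempty (Sylow 3 G) := inferInstance
  have h9 := card_sylow hq hq3 hcard P
  have hout : One.Out G := by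
    rcases Local.dichotomy hG P h9 h3 with ⟨n, hn⟩ | ⟨e₁, e₂, he⟩
    · exact Inversion.out hG hq hq2 hq3 hcard P h9 hn
    · exact Klein.out hG hq hq2 hq3 hcard he h9
  rcases hout with h | h | h
  · have := AltSix.card_classes_le h
    omega
  · haveI : Fact (Nat.Prime 2) := ⟨Nat.prime_two⟩
    have := Fintype.ofFinite (GaloisField 2 3)
    have h8 : Fintype.card (GaloisField 2 3) = 8 := by
      rw [← Nat.card_eq_fintype_card, GaloisField.card 2 3 (by norm_num)]; norm_num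
    exact Or.inl ⟨GaloisField 2 3, inferInstance, inferInstance, h8, Cfsg.Agent.S1011.result h h8⟩
  · exact Or.inr h

end Cfsg.Agent.Lib.NineTwoQ78.Main
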