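import Cfsg.Agent.Lib.NineTwoQ78.Count
import Cfsg.Agent.Lib.FirstPower.SmallDegree.Main
import Cfsg.Agent.Lib.BlocksChars5.SimpleDegrees
import Cfsg.Agent.Lib.FirstPower.PerfectFew.Main
import Cfsg.Agent.S1001
import Cfsg.Agent.S0496

/-!
# Simple groups of order `9 * 2 ^ a * p` for `p = 5, 7`
-/

set_option autoImplicit false

namespace Cfsg.Agent.Lib.NineTwoQ78.Small

open Cfsg.Agent.Lib Cfsg.Agent.Lib.Characters.Basic
open Cfsg.Agent.Lib.FirstPower Cfsg.Agent.Lib.FirstPower.SmallDegree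
open Cfsg.Agent.Lib.FirstPower.Periods Cfsg.Agent.Lib.FirstPower.Average
open Cfsg.Agent.Lib.FirstPower.Consequences Cfsg.Agent.Lib.FirstPower.PerfectFew
open Cfsg.Agent.Lib.FirstPower.Family (pow_eq_one_of_order)
open scoped ComplexConjugate

universe u

/-- Two coprime neighbours made of twos and threes, both above one. -/
theorem neighbours {a d w : ℕ} (hd1 : 1 < d) (hw1 : 1 < w) (hd : d ∣ 9 * 2 ^ a)
    (hw : w ∣ 9 * 2 ^ a) (h : d + 1 = w ∨ w + 1 = d) :
    (d ∣ 9 ∧ ∃ i, i ≠ 0 ∧ w = 2 ^ i) ∨ (w ∣ 9 ∧ ∃ i, i ≠ 0 ∧ d = 2 ^ i) := by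
  have key : ∀ o e : ℕ, 1 < o → o ∣ 9 * 2 ^ a → e ∣ 9 * 2 ^ a → ¬ 2 ∣ o → 1 < e →
      (o + 1 = e ∨ e + 1 = o) → o ∣ 9 ∧ ∃ i, i ≠ 0 ∧ e = 2 ^ i := by
    intro o e ho1 ho he ho2 he1 hoe
    have h9 : o ∣ 9 :=
      ((Nat.prime_two.coprime_iff_not_dvd.mpr ho2).symm.pow_right a).dvd_of_dvd_mul_right ho
    refine ⟨h9, ?_⟩
    have ho9 : o = 3 ∨ o = 9 := by
      have hle := Nat.le_of_dvd (by norm_num) h9
      interval_cases o <;> simp_all (config := { decide := true })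
    have he3 : ¬ 3 ∣ e := by omega
    have he2 : e ∣ 2 ^ a :=
      ((Nat.prime_three.coprime_iff_not_dvd.mpr he3).symm.pow_right 2).dvd_of_dvd_mul_left he
    obtain ⟨i, -, rfl⟩ := (Nat.dvd_prime_pow Nat.prime_two).mp he2
    exact ⟨i, by rintro rfl; simp at he1, rfl⟩
  by_cases hd2 : 2 ∣ d
  · exact Or.inr (key w d hw1 hw hd (by omega) hd1 (by omega))
  · exact Or.inl (key d w hd1 hd hw hd2 hw1 h)

set_option maxHeartbeats 1000000 in
theorem index_two {G : Type u} [Group G] [Finite G] [IsSimpleGroup G] (hG : ¬ IsMulCommutative G)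
    {p a : ℕ} [Fact p.Prime] (hp : p = 5 ∨ p = 7) (ha : 5 ≤ a)
    (hcard : Nat.card G = 9 * 2 ^ a * p) {x : G} (hx : orderOf x = p)
    (hC : Subgroup.centralizer ({x} : Set G) = Subgroup.zpowers x)
    (he : Nat.card (autE (pow_eq_one_of_order hx)) = 2) : False := by
  classical
  have := Fintype.ofFinite G
  have := Fintype.ofFinite (Cfsg.IrrCharacter G)
  let _ := Fintype.ofFinite (Cls hx)
  have hperf := SmallGroups.Sylow.commutator_eq_top hG
  have hna : ¬ ∀ g h : G, g * h = h * g := fun h => hG ⟨⟨h⟩⟩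
  obtain ⟨Φ⟩ := exists_fam (hx := hx) hC
  obtain ⟨χ, hχ⟩ : ∃ χ, Φ.R.erase (oneChar G) = {χ} := Finset.card_eq_one.mp (by
    rw [Finset.card_erase_of_mem Φ.one_mem, Φ.card_R, he])
  have hχ' := Finset.mem_erase.mp (hχ ▸ Finset.mem_singleton_self χ : χ ∈ Φ.R.erase (oneChar G))
  have hRsum : ∀ (f : Cfsg.IrrCharacter G → ℂ), ∑ ψ ∈ Φ.R, f ψ = f (oneChar G) + f χ := fun f => by
    rw [← Finset.add_sum_erase _ f Φ.one_mem, hχ, Finset.sum_singleton]
  set d := Φ.d with hd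
  set w := Cfsg.charDegree (χ : G → ℂ) with hw
  set s := Φ.a χ with hs
  -- the relation
  have hrel : ∀ g : G, ¬ p ∣ orderOf g →
      1 + (s : ℂ) * (χ : G → ℂ) g = (Φ.δ : ℂ) * (Φ.Y 1 : G → ℂ) g := fun g hg => by
    rw [← Φ.rel g hg, hRsum, Φ.a_one, oneChar_apply]
    rw [Int.cast_one, one_mul, hs]
  have hdeg : 1 + s * (w : ℤ) = Φ.δ * (d : ℤ) := by
    have h := hrel 1 SmallDegree.not_dvd_one
    rw [DegreeBounds.Basic.charDegree_irr, DegreeBounds.Basic.charDegree_irr] at h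
    exact_mod_cast h
  have hd1 : 1 < d := by
    have h0 := DegreeBounds.Basic.charDegree_pos (Φ.Y 1)
    rcases Nat.lt_or_ge 1 d with h | h
    · exact h
    · exact absurd (Consequences.charDegree_eq_one_of_perfect hperf (Φ.Y 1)
        (by rw [hd] at h; change Cfsg.charDegree _ ≤ 1 at h; omega))
        (fun e => Φ.Y_notR 1 (e ▸ Φ.one_mem))
  have hw1 : 1 < w := by
    have h0 := DegreeBounds.Basic.charDegree_pos χ
    rcases Nat.lt_or_ge 1 w with h | h
    · exact h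
    · exact absurd (Consequences.charDegree_eq_one_of_perfect hperf χ (by omega)) hχ'.1
  have hsS := Φ.a_sign χ hχ'.2
  rw [← hs] at hsS
  have hnext : d + 1 = w ∨ w + 1 = d := by
    rcases hsS with h | h <;> rcases Φ.hδ with h' | h' <;> rw [h, h'] at hdeg <;> omega
  have hp : p.Prime := Fact.out
  have hdvd : ∀ ψ : Cfsg.IrrCharacter G, ¬ p ∣ Cfsg.charDegree (ψ : G → ℂ) →
      Cfsg.charDegree (ψ : G → ℂ) ∣ 9 * 2 ^ a := fun ψ h =>
    (hp.coprime_iff_not_dvd.mpr h).symm.dvd_of_dvd_mul_right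
      (hcard ▸ DegreeBounds.Basic.charDegree_dvd ψ)
  have hwp : ¬ p ∣ w := by
    rw [← ZMod.natCast_eq_zero_iff, hw, Φ.deg_R hχ'.2, ← hs]
    rcases hsS with h | h <;> simp [h]
  have hdp : ¬ p ∣ d := by
    intro h
    rw [← ZMod.natCast_eq_zero_iff] at h
    have e1 := degree_of_period (autE (pow_eq_one_of_order hx)) (pow_eq_one_of_order hx) (Φ.Y 1)
      (δ := Φ.δ) 1 (fun u => by simpa using Φ.valY 1 u)
    change (d : ZMod p) = _ at e1
    rw [h, he] at e1
    have h2 : ((2 : ℕ) : ZMod p) ≠ 0 := by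
      rw [Ne, ZMod.natCast_eq_zero_iff]
      exact fun h => by have := Nat.le_of_dvd two_pos h; omega
    rcases Φ.hδ with h' | h' <;> rw [h'] at e1 <;> simp at e1 h2 <;> first | exact h2 e1 | exact h2 e1.symm
  -- a central involution
  obtain ⟨v, hv, hv1, hidx⟩ := exists_central_involution (G := G)
    (hcard ▸ Dvd.dvd.mul_right (Dvd.dvd.mul_left (dvd_pow_self 2 (by omega)) 9) p)
  have hvp : ¬ p ∣ orderOf v := by
    rw [orderOf_eq_prime (p := 2) (by rw [pow_two, hv]) hv1]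
    exact fun h => by have := Nat.le_of_dvd two_pos h; omega
  have hzero : ∀ ψ : Cfsg.IrrCharacter G, ψ ≠ oneChar G → ∀ i : ℕ,
      Cfsg.charDegree (ψ : G → ℂ) = 2 ^ i → (ψ : G → ℂ) v = 0 := fun ψ hψ i hi =>
    BlocksChars5.SimpleDegrees.apply_eq_zero_of_coprime hna hv1 ψ hψ
      (hi ▸ (Nat.coprime_two_left.mpr hidx).pow_left i)
  -- the structure constant
  set T := ∑ ψ : Cfsg.IrrCharacter G,
    (ψ : G → ℂ) v * (ψ : G → ℂ) v * conj ((ψ : G → ℂ) x) / (ψ : G → ℂ) 1 with hT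
  have hxv : ∀ ψ : Cfsg.IrrCharacter G, (ψ : G → ℂ) x =
      (ψ : G → ℂ) (x ^ ((1 : (ZMod p)ˣ) : ZMod p).val) := fun ψ => by
    rw [Units.val_one, pow_val_one (pow_eq_one_of_order hx)]
  have hTval : T = 1 + (χ : G → ℂ) v ^ 2 * (s : ℂ) / (w : ℂ) -
      (Φ.δ : ℂ) * (Φ.Y 1 : G → ℂ) v ^ 2 / (d : ℂ) := by
    rw [hT, Φ.sum_split, hRsum,
      Finset.sum_eq_zero (s := (_ : Finset (Cfsg.IrrCharacter G))ᶜ) fun ψ hψ => by
        simp only [Finset.mem_compl, Finset.mem_union, Finset.mem_image, Finset.mem_univ, true_and,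
          not_or, not_exists] at hψ
        rw [hxv ψ, Φ.valO ψ hψ.1 hψ.2]; simp,
      add_zero, oneChar_apply, oneChar_apply, oneChar_apply, map_one, mul_one, mul_one, div_one,
      hxv χ, Φ.valR χ hχ'.2, ← hs, map_intCast, DegreeBounds.Basic.charDegree_irr, ← hw,
      Finset.sum_congr (s₁ := (Finset.univ : Finset (Cls hx))) rfl fun q _ => by
        rw [hxv, Φ.valY, QuotientGroup.mk_one, mul_one, map_mul, map_intCast,
          DegreeBounds.Basic.charDegree_irr, Φ.deg_Y, Φ.regY q v hvp, ← hd,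
          show ((Φ.Y 1 : G → ℂ) v * (Φ.Y 1 : G → ℂ) v * ((Φ.δ : ℂ) * conj (eta _ q))) / (d : ℂ) =
            ((Φ.δ : ℂ) * (Φ.Y 1 : G → ℂ) v ^ 2 / (d : ℂ)) * conj (eta _ q) by ring],
      ← Finset.mul_sum, ← map_sum, sum_eta, map_neg, map_one]
    ring
  have hd0 : (d : ℂ) ≠ 0 := Nat.cast_ne_zero.mpr (by omega)
  have hw0 : (w : ℂ) ≠ 0 := Nat.cast_ne_zero.mpr (by omega)
  have hδ2 : (Φ.δ : ℂ) * Φ.δ = 1 := by rcases Φ.hδ with h | h <;> rw [h] <;> norm_num
  have hs2 : (s : ℂ) * s = 1 := by rcases hsS with h | h <;> rw [h] <;> norm_num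
  obtain ⟨N, D, hN, hN0, hD0, hTN⟩ : ∃ N D : ℕ, N ≤ 10 ∧ N ≠ 0 ∧ D ∣ 9 ∧
      (D : ℂ) * T = (N : ℂ) := by
    rcases neighbours hd1 hw1 (hdvd _ hdp) (hdvd χ hwp) hnext with ⟨h9, i, -, hi⟩ | ⟨h9, i, -, hi⟩
    · have hχv := hzero χ hχ'.1 i hi
      have hYv : (Φ.Y 1 : G → ℂ) v = Φ.δ := by
        have := hrel v hvp
        rw [hχv, mul_zero, add_zero] at this
        linear_combination (-(Φ.δ : ℂ)) * this - ((Φ.Y 1 : G → ℂ) v) * hδ2
      have hle := Nat.le_of_dvd (by norm_num) h9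
      refine ⟨((d : ℤ) - Φ.δ).toNat, d, ?_, ?_, h9, ?_⟩
      · rcases Φ.hδ with h | h <;> rw [h] <;> omega
      · rcases Φ.hδ with h | h <;> rw [h] <;> omega
      · rw [hTval, hχv, hYv, show (Φ.δ : ℂ) ^ 2 = 1 by rw [pow_two]; exact hδ2]
        have : (((((d : ℤ) - Φ.δ).toNat : ℕ) : ℤ) : ℂ) = (d : ℂ) - Φ.δ := by
          rw [Int.toNat_of_nonneg (by rcases Φ.hδ with h | h <;> rw [h] <;> omega)]
          push_cast; ring
        rw [Int.cast_natCast] at this
        rw [this]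
        rw [mul_sub, mul_add, mul_one, mul_one, mul_div_cancel₀ _ hd0]
        ring
    · have hYne : Φ.Y 1 ≠ oneChar G := fun e => Φ.Y_notR 1 (e ▸ Φ.one_mem)
      have hYv := hzero (Φ.Y 1) hYne i hi
      have hχv : (χ : G → ℂ) v = -(s : ℂ) := by
        have := hrel v hvp
        rw [hYv, mul_zero] at this
        linear_combination (s : ℂ) * this - ((χ : G → ℂ) v) * hs2
      have hle := Nat.le_of_dvd (by norm_num) h9
      refine ⟨((w : ℤ) + s).toNat, w, ?_, ?_, h9, ?_⟩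
      · rcases hsS with h | h <;> rw [h] <;> omega
      · rcases hsS with h | h <;> rw [h] <;> omega
      · rw [hTval, hχv, hYv, neg_sq, show (s : ℂ) ^ 2 = 1 by rw [pow_two]; exact hs2]
        have : (((((w : ℤ) + s).toNat : ℕ) : ℤ) : ℂ) = (w : ℂ) + s := by
          rw [Int.toNat_of_nonneg (by rcases hsS with h | h <;> rw [h] <;> omega)]
          push_cast; ring
        rw [Int.cast_natCast] at this
        rw [this]
        rw [mul_sub, mul_add, mul_one, one_mul, mul_div_cancel₀ _ hw0]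
        ring
  have hT0 : T ≠ 0 := fun h => hN0 (by rw [h, mul_zero] at hTN; exact_mod_cast hTN.symm)
  have hmain := Count.structure_constant hp (by omega) hx hC hv hT0
  rw [← hT, hcard] at hmain
  have hnat : 9 * 2 ^ a * p * N = p * Nat.card (Subgroup.centralizer ({v} : Set G)) ^ 2 * D := by
    have : (((9 * 2 ^ a * p * N : ℕ)) : ℂ) =
        ((p * Nat.card (Subgroup.centralizer ({v} : Set G)) ^ 2 * D : ℕ) : ℂ) := by
      push_cast at hmain ⊢
      rw [← hTN, ← hmain]; ring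
    exact_mod_cast this
  have h2a : 2 ^ a ∣ Nat.card (Subgroup.centralizer ({v} : Set G)) := by
    refine ((Nat.coprime_two_left.mpr hidx).pow_left a).dvd_of_dvd_mul_right ?_
    rw [Subgroup.card_mul_index, hcard]
    exact Dvd.dvd.mul_right (dvd_mul_left _ _) _
  obtain ⟨m, hm⟩ := h2a
  rw [hm] at hnat
  have h3 : 2 ^ a ∣ 9 * N := by
    refine Dvd.intro (m ^ 2 * D) (Nat.eq_of_mul_eq_mul_left (Nat.mul_pos hp.pos (Nat.two_pow_pos a)) ?_)
    calc p * 2 ^ a * (2 ^ a * (m ^ 2 * D)) = p * (2 ^ a * m) ^ 2 * D := by ring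
      _ = 9 * 2 ^ a * p * N := hnat.symm
      _ = _ := by ring
  have h4 : 2 ^ a ∣ N := ((Nat.Coprime.pow_left a (by norm_num : Nat.Coprime 2 9))).dvd_of_dvd_mul_left h3
  have := Nat.le_of_dvd (Nat.pos_of_ne_zero hN0) h4
  have : 2 ^ 5 ≤ 2 ^ a := Nat.pow_le_pow_right two_pos ha
  omega

/-- Simple groups of order `9 * 2 ^ a * p`, `p = 5, 7`, with `a ≤ 7` when `p = 5`. -/
theorem card_eq {G : Type u} [Group G] [Finite G] [IsSimpleGroup G] (hG : ¬ IsMulCommutative G)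
    {p a : ℕ} (hp : p = 5 ∧ a ≤ 7 ∨ p = 7) (hcard : Nat.card G = 9 * 2 ^ a * p) :
    Nat.card G = 360 ∨ Nat.card G = 504 := by
  have hp' : p = 5 ∨ p = 7 := hp.imp And.left id
  rcases Nat.lt_or_ge a 5 with ha | ha
  · have hle : Nat.card G ≤ 1092 := by
      rw [hcard]; interval_cases a <;> rcases hp' with rfl | rfl <;> norm_num
    have h := Cfsg.Agent.S0496.result hG hle
    rw [hcard] at h ⊢
    interval_cases a <;> rcases hp' with rfl | rfl <;> first | (norm_num at h; done) | norm_num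
  exfalso
  have : Fact p.Prime := ⟨by rcases hp' with rfl | rfl <;> norm_num⟩
  have := Fintype.ofFinite G
  obtain ⟨x, hx⟩ := exists_prime_orderOf_dvd_card' p (hcard ▸ dvd_mul_left p _)
  have hC := Cfsg.Agent.S1001.result p 2 a Fact.out (by rw [hcard]; ring) x hx
  have hperf := SmallGroups.Sylow.commutator_eq_top hG
  have he2 := FirstPower.PerfectFew.two_le_autE hx hC hperf
  have hdiv : Nat.card (autE (pow_eq_one_of_order hx)) ∣ p - 1 := by
    have := Subgroup.card_subgroup_dvd_card (autE (pow_eq_one_of_order hx))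
    rwa [Nat.card_eq_fintype_card (α := (ZMod p)ˣ), ZMod.card_units] at this
  have hn := FirstPower.Consequences.card_eq hx (PerfectFew.not_sq_dvd hx hC)
    (isVPart_bot hx hC)
  rw [Subgroup.card_bot, mul_one, hcard, ← mul_assoc] at hn
  have hn' := Nat.eq_of_mul_eq_mul_right (Fact.out : p.Prime).pos hn
  have hmod := SmallGroups.Sylow.card_sylow_mod (p := p) (G := G)
  refine index_two hG hp' ha hcard hx hC ?_
  generalize Nat.card (autE (pow_eq_one_of_order hx)) = e at he2 hdiv hn'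
  generalize Nat.card (Sylow p G) = n at hn' hmod
  rcases hp with ⟨rfl, ha7⟩ | rfl
  · have : e ≤ 4 := Nat.le_of_dvd (by norm_num) hdiv
    interval_cases a <;> interval_cases e <;> first | rfl | omega
  · have : e ≤ 6 := Nat.le_of_dvd (by norm_num) hdiv
    by_contra he
    have h36 : e = 3 ∨ e = 6 := by interval_cases e <;> omega
    have hpow : ∀ k : ℕ, 2 ^ k % 7 = 1 ∨ 2 ^ k % 7 = 2 ∨ 2 ^ k % 7 = 4 := by
      intro k
      induction k with
      | zero => exact Or.inl rfl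
      | succ k ih => rw [pow_succ, Nat.mul_mod]; rcases ih with h | h | h <;> rw [h] <;> norm_num
    obtain ⟨c, rfl⟩ : ∃ c, a = c + 1 := ⟨a - 1, by omega⟩
    have := hpow c
    rw [pow_succ] at hn'
    rcases h36 with rfl | rfl <;> omega

end Cfsg.Agent.Lib.NineTwoQ78.Small
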